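import Cfsg.Agent.PrimeDegreeTI.Perfect
import Cfsg.Agent.PrimeDegreeTwoP.Main

/-!
# A complement of order two, or centralized by its normalizer
-/

set_option autoImplicit false
set_option linter.style.haveILetI false
set_option linter.unusedSectionVars false

namespace CfsgLib.PrimeDegreeTI

open MulAction

section Abstract

variable {G : Type*} [Group G] [Finite G]

/-- A Sylow subgroup of a perfect simple group is not centralized by its normalizer. -/
theorem false_of_normalizer_le_centralizer [IsSimpleGroup G] (hperf : commutator G = ⊤) {q : ℕ}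
    [Fact q.Prime] (S : Sylow q G) (hS : (S : Subgroup G) ≠ ⊥)
    (h : Subgroup.normalizer ((S : Subgroup G) : Set G) ≤ Subgroup.centralizer ((S : Subgroup G) : Set G)) :
    False := by
  have hc := MonoidHom.ker_transferSylow_isComplement' S h
  rcases (MonoidHom.normal_ker (MonoidHom.transferSylow S h)).eq_bot_or_eq_top with hk | hk
  · rw [hk, Subgroup.isComplement'_bot_left] at hc
    have hall : ∀ a b : G, a * b = b * a := fun a b => by
      have ha : a ∈ (S : Subgroup G) := hc ▸ Subgroup.mem_top a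
      have hb : b ∈ (S : Subgroup G) := hc ▸ Subgroup.mem_top b
      exact Subgroup.mem_centralizer_iff.1 (h (Subgroup.le_normalizer hb)) a ha
    have hbot : commutator G = ⊥ := by
      rw [commutator_def, Subgroup.commutator_eq_bot_iff_le_centralizer]
      intro a _
      exact Subgroup.mem_centralizer_iff.2 fun b _ => hall b a
    exact bot_ne_top (hbot.symm.trans hperf)
  · rw [hk, Subgroup.isComplement'_top_left] at hc
    exact hS hc

/-- In a `q`-group a proper subgroup grows in its normalizer. -/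
theorem exists_mem_normalizer {q : ℕ} [Fact q.Prime] (S : Subgroup G) (hS : IsPGroup q S)
    (Q : Subgroup G) (hQS : Q ≤ S) (hne : Q ≠ S) :
    ∃ s ∈ S, s ∉ Q ∧ s ∈ Subgroup.normalizer (Q : Set G) := by
  haveI := hS.isNilpotent
  have hlt : Q.subgroupOf S < ⊤ := lt_top_iff_ne_top.2 fun h =>
    hne (le_antisymm hQS (Subgroup.subgroupOf_eq_top.1 h))
  obtain ⟨s, hs, hsQ⟩ := SetLike.exists_of_lt (Group.normalizerCondition_of_isNilpotent _ hlt)
  refine ⟨s, s.2, hsQ, Subgroup.mem_normalizer_iff.2 fun a => ⟨fun ha => ?_, fun ha => ?_⟩⟩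
  · exact ((Subgroup.mem_normalizer_iff.1 hs) ⟨a, hQS ha⟩).1 ha
  · have haS : a ∈ S := by
      have h1 := S.mul_mem (S.mul_mem (S.inv_mem s.2) (hQS ha)) s.2
      simpa [mul_assoc] using h1
    exact ((Subgroup.mem_normalizer_iff.1 hs) ⟨a, haS⟩).2 ha

/-- A TI cyclic subgroup of index two in its normalizer is not centralized by it, in a perfect
simple group, unless its order is at most two. -/
theorem exists_not_commute [IsSimpleGroup G] (hperf : commutator G = ⊤) (E : Subgroup G) (x : G)
    (hE : Subgroup.zpowers x = E) (h3 : 3 ≤ orderOf x)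
    (hNE : Nat.card (Subgroup.normalizer (E : Set G)) = 2 * Nat.card E)
    (hC : ∀ g y : G, y ∈ E → y ≠ 1 → Commute g y → g ∈ Subgroup.normalizer (E : Set G))
    (hTI : ∀ g : G, g ∉ Subgroup.normalizer (E : Set G) →
      E ⊓ E.map (MulAut.conj g).toMonoidHom = ⊥) :
    ∃ t ∈ Subgroup.normalizer (E : Set G), t * x * t⁻¹ ≠ x := by
  classical
  by_contra hcen
  push Not at hcen
  set N := Subgroup.normalizer (E : Set G) with hNdef
  have hEN : E ≤ N := Subgroup.le_normalizer
  have hxE : x ∈ E := hE ▸ Subgroup.mem_zpowers x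
  have hidx : (E.subgroupOf N).index = 2 := by
    have h1 := Subgroup.card_mul_index (E.subgroupOf N)
    rw [Nat.card_congr (Subgroup.subgroupOfEquivOfLe hEN).toEquiv, hNE, mul_comm 2] at h1
    exact Nat.eq_of_mul_eq_mul_left Nat.card_pos h1
  have hmul : ∀ a ∈ N, ∀ b ∈ N, a ∉ E → b ∉ E → a⁻¹ * b ∈ E := by
    intro a ha b hb hna hnb
    exact (Subgroup.mul_mem_iff_of_index_two hidx (a := (⟨a, ha⟩ : N)⁻¹) (b := ⟨b, hb⟩)).2
      (iff_of_false (fun h => hna (by simpa [Subgroup.mem_subgroupOf] using h)) hnb)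
  have hsq : ∀ a ∈ N, a * a ∈ E := fun a ha => by
    have := Subgroup.sq_mem_of_index_two hidx (⟨a, ha⟩ : N)
    simpa [Subgroup.mem_subgroupOf, sq] using this
  have hcE : ∀ a ∈ N, ∀ y ∈ E, Commute a y := by
    intro a ha y hy
    rw [← hE] at hy
    obtain ⟨i, rfl⟩ := Subgroup.mem_zpowers_iff.1 hy
    exact (show Commute a x from mul_inv_eq_iff_eq_mul.1 (hcen a ha)).zpow_right i
  have hab : ∀ a ∈ N, ∀ b ∈ N, Commute a b := by
    intro a ha b hb
    by_cases hae : a ∈ E
    · exact (hcE b hb a hae).symm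
    by_cases hbe : b ∈ E
    · exact hcE a ha b hbe
    have h1 := hcE a ha _ (hmul a ha b hb hae hbe)
    have h2 := (Commute.refl a).mul_right h1
    rwa [mul_inv_cancel_left] at h2
  by_cases hodd : ∃ q : ℕ, q.Prime ∧ q ≠ 2 ∧ q ∣ orderOf x
  · obtain ⟨q, hq, hq2, hqx⟩ := hodd
    haveI : Fact q.Prime := ⟨hq⟩
    set y := x ^ (orderOf x / q) with hy
    have hyo : orderOf y = q := orderOf_pow_orderOf_div (orderOf_pos x).ne' hqx
    obtain ⟨S, hS⟩ := (IsPGroup.iff_card.2 ⟨1, by rw [Nat.card_zpowers, hyo, pow_one]⟩ :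
      IsPGroup q (Subgroup.zpowers y)).exists_le_sylow
    have hy1 : y ≠ 1 := fun h => by rw [h, orderOf_one] at hyo; exact hq.one_lt.ne hyo
    have hyE : y ∈ E := pow_mem hxE _
    have hyS : y ∈ (S : Subgroup G) := hS (Subgroup.mem_zpowers y)
    set Q := (S : Subgroup G) ⊓ E with hQ
    have hyQ : y ∈ Q := ⟨hyS, hyE⟩
    have hNQ : Subgroup.normalizer (Q : Set G) ≤ N := by
      intro g hg
      by_contra hgN
      have h1 : g * y * g⁻¹ ∈ E ⊓ E.map (MulAut.conj g).toMonoidHom :=
        ⟨(Subgroup.mem_normalizer_iff.1 hg y).1 hyQ |>.2, ⟨y, hyE, rfl⟩⟩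
      rw [hTI g hgN, Subgroup.mem_bot, mul_inv_eq_one] at h1
      exact hy1 (by simpa using h1)
    have hSE : (S : Subgroup G) ≤ E := by
      by_contra hle
      obtain ⟨s, hs, hsQ, hsn⟩ := exists_mem_normalizer (S : Subgroup G) S.2 Q inf_le_left
        (fun h => hle (by rw [← h]; exact inf_le_right))
      apply hsQ
      refine ⟨hs, ?_⟩
      obtain ⟨k, hk⟩ : ∃ k, orderOf s = q ^ k := by
        obtain ⟨k, hk⟩ := S.2 ⟨s, hs⟩
        obtain ⟨i, -, hi⟩ := (Nat.dvd_prime_pow hq).1 (orderOf_dvd_of_pow_eq_one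
          (show s ^ q ^ k = 1 by simpa using congrArg Subtype.val hk))
        exact ⟨i, hi⟩
      obtain ⟨i, hi⟩ := (hq.odd_of_ne_two hq2).pow (n := k)
      have h1 : (s * s) ^ (i + 1) = s := by
        rw [← pow_two, ← pow_mul, show 2 * (i + 1) = orderOf s + 1 by omega, pow_succ,
          pow_orderOf_eq_one, one_mul]
      rw [← h1]
      exact pow_mem (hsq s (hNQ hsn)) _
    refine false_of_normalizer_le_centralizer hperf S (fun h => hy1 (Subgroup.mem_bot.1 (h ▸ hyS))) ?_
    intro g hg
    refine Subgroup.mem_centralizer_iff.2 fun a ha => ((hcE g (hNQ ?_) a (hSE ha)).eq).symm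
    rwa [show Q = (S : Subgroup G) from inf_of_le_left hSE]
  · push Not at hodd
    obtain ⟨a, ha⟩ : ∃ a, orderOf x = 2 ^ a := ⟨(orderOf x).primeFactorsList.length,
      Nat.eq_prime_pow_of_unique_prime_dvd (orderOf_pos x).ne' fun {d} hd hdx => by
        by_contra h
        exact hodd d hd h hdx⟩
    haveI : Fact (Nat.Prime 2) := ⟨Nat.prime_two⟩
    obtain ⟨b, rfl⟩ : ∃ b, a = b + 2 := ⟨a - 2, by
      rcases a with _ | _ | a
      · rw [pow_zero] at ha; omega
      · rw [pow_one] at ha; omega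
      · omega⟩
    set j := x ^ 2 ^ (b + 1) with hj
    have hjE : j ∈ E := pow_mem hxE _
    have hj1 : j ≠ 1 := fun h => by
      have h1 := Nat.le_of_dvd (by positivity) (orderOf_dvd_of_pow_eq_one h)
      rw [ha, pow_succ 2 (b + 1)] at h1
      have : 0 < 2 ^ (b + 1) := by positivity
      omega
    have hinv : ∀ w ∈ E, w * w = 1 → w ≠ 1 → w = j := by
      intro w hw hw2 hw1
      rw [← hE] at hw
      obtain ⟨i, rfl⟩ := mem_powers_iff_mem_zpowers.2 hw
      simp only at hw2 hw1 ⊢
      have hdvd : 2 ^ (b + 1) * 2 ∣ i * 2 := by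
        rw [← pow_succ, ← ha]
        refine orderOf_dvd_of_pow_eq_one ?_
        rw [mul_two, pow_add]
        exact hw2
      obtain ⟨c, hc⟩ := (Nat.mul_dvd_mul_iff_right two_pos).1 hdvd
      rw [hc, pow_mul, ← hj]
      rcases Nat.even_or_odd c with ⟨d, hd⟩ | ⟨d, hd⟩
      · exfalso
        apply hw1
        rw [hc, pow_mul, ← hj, hd, ← two_mul, pow_mul]
        rw [show j ^ 2 = 1 by rw [hj, ← pow_mul, ← pow_succ, ← ha, pow_orderOf_eq_one], one_pow]
      · rw [hd, pow_succ, pow_mul,
          show j ^ 2 = 1 by rw [hj, ← pow_mul, ← pow_succ, ← ha, pow_orderOf_eq_one], one_pow,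
          one_mul]
    have hNN : Subgroup.normalizer (N : Set G) ≤ N := by
      intro g hg
      refine hC g j hjE hj1 ?_
      set w := g * x ^ 2 ^ b * g⁻¹ with hw
      have hwN : w ∈ N := (Subgroup.mem_normalizer_iff.1 hg _).1 (hEN (pow_mem hxE _))
      have hww : w * w = g * j * g⁻¹ := by
        rw [hw, hj, pow_succ, pow_mul, pow_two]
        group
      have h1 := hinv (w * w) (hsq w hwN) (by
        rw [hww, show g * j * g⁻¹ * (g * j * g⁻¹) = g * (j * j) * g⁻¹ by group,
          show j * j = 1 by rw [hj, ← pow_add, ← two_mul, ← pow_succ', ← ha, pow_orderOf_eq_one],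
          mul_one, mul_inv_cancel]) (by rw [hww]; simpa using hj1)
      rw [hww, mul_inv_eq_iff_eq_mul] at h1
      exact h1
    have hN2 : IsPGroup 2 N := IsPGroup.iff_card.2 ⟨b + 3, by
      rw [hNE, ← hE, Nat.card_zpowers, ha]; ring⟩
    obtain ⟨T, hT⟩ := hN2.exists_le_sylow
    have hTN : (T : Subgroup G) = N := by
      by_contra hne
      obtain ⟨s, -, hsN, hsn⟩ := exists_mem_normalizer (T : Subgroup G) T.2 N hT (Ne.symm hne)
      exact hsN (hNN hsn)
    refine false_of_normalizer_le_centralizer hperf T (fun h => hj1 (Subgroup.mem_bot.1 ?_)) ?_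
    · rw [← h, hTN]; exact hEN hjE
    intro g hg
    rw [hTN] at hg ⊢
    exact Subgroup.mem_centralizer_iff.2 fun c hc => (hab c hc g (hNN hg)).eq

end Abstract

variable {α : Type*} [Fintype α] [DecidableEq α] {p : ℕ} [Fact p.Prime]
  {G : Subgroup (Equiv.Perm α)}

/-- With a complement of order two the degree is five and the group is alternating. -/
theorem two_case (hα : Fintype.card α = p) [IsPretransitive G α] {P : Sylow p G} {E : Subgroup G}
    (S : Data G P E) (hp5 : 5 ≤ p) (he : orderOf S.x = 2)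
    (hPE : (P : Subgroup G) ⊔ E = Subgroup.normalizer ((P : Subgroup G) : Set G))
    (hPE' : (P : Subgroup G) ⊓ E = ⊥) (hnn : ¬ (P : Subgroup G).Normal)
    (hperf : commutator G = ⊤)
    (hNE : Nat.card (Subgroup.normalizer (E : Set G)) = 2 * Nat.card E)
    (hTI : ∀ g : G, g ∉ Subgroup.normalizer (E : Set G) →
      E ⊓ E.map (MulAut.conj g).toMonoidHom = ⊥) :
    p = 5 ∧ Nonempty (G ≃* alternatingGroup (Fin 5)) := by
  classical
  have hp : p.Prime := Fact.out
  have hN : Nat.card (Subgroup.normalizer ((P : Subgroup G) : Set G)) = 2 * p := by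
    rw [S.card_normalizer hPE hPE', he, mul_comm]
  obtain ⟨htrans, hthree⟩ := PrimeDegreeTwoP.main (by omega) hα G P hN hnn
  have hm1 : (S.m : ZMod p) ≠ 1 := fun h => by
    have h1 := S.orderOf_m
    rw [h, orderOf_one, he] at h1
    omega
  set a₀ : ZMod p := S.coord.symm ((S.x : Equiv.Perm α) (S.coord 0)) / (1 - (S.m : ZMod p)) with ha₀
  have hne : (1 : ZMod p) - (S.m : ZMod p) ≠ 0 := sub_ne_zero.2 (Ne.symm hm1)
  have hfix : ∀ i, (S.x : Equiv.Perm α) (S.coord i) = S.coord i ↔ i = a₀ := by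
    intro i
    rw [← Equiv.symm_apply_eq (e := S.coord) |>.trans (eq_comm) |>.trans eq_comm, S.affine, ha₀,
      eq_div_iff hne]
    constructor <;> intro h <;> linear_combination -h
  set a := S.coord a₀ with ha
  have hxa : S.x • a = a := (hfix a₀).2 rfl
  have hmove : ∀ b, b ≠ a → S.x • b ≠ b := fun b hb h => hb (by
    obtain ⟨i, rfl⟩ := S.coord.surjective b
    rw [(hfix i).1 h])
  have hxx : ∀ b : α, S.x • S.x • b = b := fun b => by
    rw [smul_smul, ← sq, ← he, pow_orderOf_eq_one, one_smul]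
  obtain ⟨b₀, hb₀⟩ := Fintype.exists_ne_of_one_lt_card (by rw [hα]; exact hp.one_lt) a
  have hxE : S.x ∈ E := S.zpowers_x.le (Subgroup.mem_zpowers S.x)
  have hx1 : S.x ≠ 1 := fun h => by rw [h, orderOf_one] at he; omega
  let emb : ∀ b, b ≠ a → (Fin 3 ↪ α) := fun b hb =>
    ⟨![a, b, S.x • b], by
      have h1 : S.x • b ≠ a := fun h => hb (by rw [← hxx b, h, hxa])
      have h2 := hmove b hb
      intro i j hij
      fin_cases i <;> fin_cases j <;> first
        | rfl
        | (exfalso; simp [hb, hb.symm, h1, h1.symm, h2, h2.symm] at hij)⟩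
  have hC : ∀ b, b ≠ a → ∃ g : G, Commute g S.x ∧ g • b₀ = b := by
    intro b hb
    obtain ⟨g, hg⟩ := htrans.exists_smul_eq (emb b₀ hb₀) (emb b hb)
    have h0 : g • a = a := DFunLike.congr_fun hg (0 : Fin 3)
    have h1 : g • b₀ = b := DFunLike.congr_fun hg (1 : Fin 3)
    have h2 : g • S.x • b₀ = S.x • b := DFunLike.congr_fun hg (2 : Fin 3)
    refine ⟨g, ?_, h1⟩
    have hfix3 : ∀ c ∈ ({a, b, S.x • b} : Finset α), (S.x⁻¹ * (g * S.x * g⁻¹)) • c = c := by
      have hga : g⁻¹ • a = a := by rw [inv_smul_eq_iff, h0]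
      have hgb : g⁻¹ • b = b₀ := by rw [inv_smul_eq_iff, h1]
      have hgxb : g⁻¹ • S.x • b = S.x • b₀ := by rw [inv_smul_eq_iff, h2]
      intro c hc
      simp only [Finset.mem_insert, Finset.mem_singleton] at hc
      rcases hc with rfl | rfl | rfl <;> simp only [mul_smul, inv_smul_eq_iff]
      · rw [hga, hxa, h0]
      · rw [hgb, h2]
      · rw [hgxb, hxx, h1, hxx]
    have hcard : 3 ≤ Nat.card (fixedBy α (S.x⁻¹ * (g * S.x * g⁻¹))) := by
      have h3 : ({a, b, S.x • b} : Finset α).card = 3 := by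
        have h1' : S.x • b ≠ a := fun h => hb (by rw [← hxx b, h, hxa])
        rw [Finset.card_insert_of_notMem (by simp [hb.symm, h1'.symm]),
          Finset.card_insert_of_notMem (by simp [(hmove b hb).symm]), Finset.card_singleton]
      rw [← h3, Nat.card_eq_card_toFinset]
      exact Finset.card_le_card fun c hc => Set.mem_toFinset.2 (hfix3 c hc)
    have h4 := hthree _ hcard
    rw [inv_mul_eq_one, eq_mul_inv_iff_mul_eq] at h4
    exact h4.symm
  have hle : p - 1 ≤ 4 := by
    let f : {b : α // b ≠ a} → Subgroup.normalizer (E : Set G) := fun b =>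
      ⟨(hC b.1 b.2).choose, centralizer_le hTI hxE hx1 (hC b.1 b.2).choose_spec.1⟩
    have hf : Function.Injective f := fun b c h => Subtype.ext (by
      rw [← (hC b.1 b.2).choose_spec.2, ← (hC c.1 c.2).choose_spec.2]
      exact congrArg (fun g : Subgroup.normalizer (E : Set G) => (g : G) • b₀) h)
    have h1 := Nat.card_le_card_of_injective f hf
    rw [hNE, S.card_E, he, Nat.card_eq_fintype_card, Fintype.card_subtype_compl,
      Fintype.card_subtype_eq, hα] at h1
    exact h1
  have hp5' : p = 5 := by omega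
  subst hp5'
  refine ⟨rfl, ?_⟩
  have hGle : G ≤ alternatingGroup α := fun g hg =>
    Equiv.Perm.mem_alternatingGroup.2 (sign_eq_one hperf ⟨g, hg⟩)
  have h60 : 60 ≤ Nat.card G := by
    have h1 : Nat.card (Fin 3 ↪ α) = 60 := by
      rw [Nat.card_eq_fintype_card, Fintype.card_embedding_eq, hα, Fintype.card_fin]
      rfl
    rw [← h1]
    exact Nat.card_le_card_of_surjective (fun g : G => g • emb b₀ hb₀)
      fun f => htrans.exists_smul_eq _ f
  haveI : Nontrivial α := Fintype.one_lt_card_iff_nontrivial.1 (by rw [hα]; norm_num)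
  have halt : Nat.card (alternatingGroup α) = 60 := by
    rw [nat_card_alternatingGroup, Nat.card_eq_fintype_card, hα]
    rfl
  have hG : G = alternatingGroup α := Subgroup.eq_of_le_of_card_ge hGle (by
    rw [halt]; exact h60)
  exact ⟨(MulEquiv.subgroupCongr hG).trans (Equiv.altCongrHom (Fintype.equivFinOfCardEq hα))⟩

end CfsgLib.PrimeDegreeTI
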