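import Cfsg.Agent.Characters.DefectZero
import Cfsg.Agent.Characters.Generalized
import Cfsg.Agent.SmallDegreeP.Spectral
import Cfsg.Agent.PrimeDegreeTI.Degenerate

/-!
# The exceptional character of degree `p + 1`

The character of degree `p` is `1` on the nontrivial elements of the complement; the difference of
two induced linear characters then yields an irreducible character of degree `p + 1` whose values on
the complement are those of two linear characters.
-/

set_option autoImplicit false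
set_option linter.style.haveILetI false
set_option linter.unusedSectionVars false

namespace CfsgLib.PrimeDegreeTI

open CfsgLib.Characters MulAction
open CfsgLib.SmallDegreeP (upow proj)
open scoped ComplexConjugate

/-- A geometric sum of roots of unity. -/
theorem sum_pow_root {e : ℕ} {a : ℂ} (ha : a ^ e = 1) :
    ∑ j ∈ Finset.range e, a ^ j = if a = 1 then (e : ℂ) else 0 := by
  split_ifs with h
  · simp [h]
  · exact (mul_eq_zero.1 (by rw [geom_sum_mul, ha, sub_self])).resolve_right (sub_ne_zero.2 h)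

/-- The inner product of two differences `1 - a`, `1 - b` over the powers. -/
theorem sum_one_sub_mul {e : ℕ} {a b : ℂ} (he : e ≠ 0) (ha : a ^ e = 1) (hb : b ^ e = 1)
    (ha1 : a ≠ 1) (hb1 : b ≠ 1) :
    ∑ j ∈ Finset.range e, (1 - a ^ j) * conj (1 - b ^ j) =
      (e : ℂ) + if a = b then (e : ℂ) else 0 := by
  have hb0 : b ≠ 0 := by
    rintro rfl
    rw [zero_pow he] at hb
    exact zero_ne_one hb
  have hcb : conj b = b⁻¹ :=
    (Complex.inv_eq_conj (Complex.norm_eq_one_of_pow_eq_one hb he)).symm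
  have hstep : ∀ j : ℕ, (1 - a ^ j) * conj (1 - b ^ j) = 1 - a ^ j - (b⁻¹) ^ j + (a * b⁻¹) ^ j := by
    intro j
    rw [map_sub, map_one, map_pow, hcb, mul_pow]
    ring
  simp only [hstep, Finset.sum_add_distrib, Finset.sum_sub_distrib]
  rw [sum_pow_root ha, sum_pow_root (by rw [inv_pow, hb, inv_one]), sum_pow_root
    (by rw [mul_pow, ha, inv_pow, hb, inv_one, mul_one]), if_neg ha1,
    if_neg (by simpa using hb1)]
  simp only [Finset.sum_const, Finset.card_range, nsmul_eq_mul, mul_one, sub_zero,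
    mul_inv_eq_one₀ hb0]

/-- An element permuting freely the lines of all but one of `p` eigenvalues of an even permutation
acts with determinant equal to the remaining eigenvalue. -/
theorem prod_eq_of_sums {n e c : ℕ} (he : e ≠ 0) (hd : Even (c * (e - 1))) {z : ℂ}
    (hz : IsPrimitiveRoot z e) (μ : Fin n → ℂ) (hμ : ∀ i, μ i ^ e = 1) {l : ℂ} (hl : l ^ e = 1)
    (hn : n = e * c + 1) (h : ∀ j, ¬ e ∣ j → ∑ i, μ i ^ j = l ^ j) : ∏ i, μ i = l := by
  classical
  set T : Finset ℂ := (Finset.range e).image fun i => z ^ i with hT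
  have hmem : ∀ a : ℂ, a ^ e = 1 → a ∈ T := fun a ha => by
    haveI : NeZero e := ⟨he⟩
    obtain ⟨i, hi, rfl⟩ := hz.eq_pow_of_pow_eq_one ha
    exact Finset.mem_image.2 ⟨i, Finset.mem_range.2 hi, rfl⟩
  have hT1 : ∀ a ∈ T, a ^ e = 1 := fun a ha => by
    obtain ⟨i, -, rfl⟩ := Finset.mem_image.1 ha
    rw [← pow_mul, mul_comm, pow_mul, hz.pow_eq_one, one_pow]
  have hcount : ∀ a ∈ T, (Finset.univ.filter fun i => μ i = a).card =
      c + if l = a then 1 else 0 := by
    intro a ha
    have ha' := hT1 a ha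
    have ha0 : a ≠ 0 := by
      rintro rfl
      rw [zero_pow he] at ha'
      exact zero_ne_one ha'
    have hsum : ∀ b : ℂ, b ^ e = 1 →
        ∑ j ∈ Finset.range e, b ^ j * (a⁻¹) ^ j = if b = a then (e : ℂ) else 0 := fun b hb => by
      simp only [← mul_pow]
      rw [sum_pow_root (by rw [mul_pow, hb, inv_pow, ha', inv_one, mul_one])]
      simp only [mul_inv_eq_one₀ ha0]
    have h1 : ∑ i, ∑ j ∈ Finset.range e, μ i ^ j * (a⁻¹) ^ j =
        (e : ℂ) * (Finset.univ.filter fun i => μ i = a).card := by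
      rw [Finset.sum_congr rfl fun i _ => hsum _ (hμ i), Finset.sum_ite, Finset.sum_const_zero,
        add_zero, Finset.sum_const, nsmul_eq_mul, mul_comm]
    have h2 : ∑ j ∈ Finset.range e, (∑ i, μ i ^ j) * (a⁻¹) ^ j =
        ∑ j ∈ Finset.range e, l ^ j * (a⁻¹) ^ j + (e * c : ℂ) := by
      have hterm : ∀ j ∈ Finset.range e, (∑ i, μ i ^ j) * (a⁻¹) ^ j =
          l ^ j * (a⁻¹) ^ j + if j = 0 then (e * c : ℂ) else 0 := by
        intro j hj
        rcases Nat.eq_zero_or_pos j with rfl | hj0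
        · simp [hn, add_comm]
        · rw [h j fun hd => by
            have := Nat.le_of_dvd hj0 hd
            have := Finset.mem_range.1 hj
            omega, if_neg hj0.ne', add_zero]
      rw [Finset.sum_congr rfl hterm, Finset.sum_add_distrib, Finset.sum_ite_eq',
        if_pos (Finset.mem_range.2 (Nat.pos_of_ne_zero he))]
    simp only [Finset.sum_mul] at h2
    rw [Finset.sum_comm, h1, hsum l hl] at h2
    have he' : (e : ℂ) ≠ 0 := Nat.cast_ne_zero.2 he
    split_ifs with hla
    · rw [if_pos hla] at h2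
      exact_mod_cast mul_left_cancel₀ he' (h2.trans (show _ = (e : ℂ) * ((c + 1 : ℕ) : ℂ) by
        push_cast; ring))
    · rw [if_neg hla, zero_add] at h2
      rw [add_zero]
      exact_mod_cast mul_left_cancel₀ he' h2
  have hprodT : ∏ a ∈ T, a = z ^ ∑ i ∈ Finset.range e, i := by
    rw [hT, Finset.prod_image fun i hi j hj hij =>
      hz.pow_inj (Finset.mem_range.1 hi) (Finset.mem_range.1 hj) hij, Finset.prod_pow_eq_pow_sum]
  rw [← Finset.prod_fiberwise_of_maps_to (g := μ) (t := T) fun i _ => hmem _ (hμ i)]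
  rw [Finset.prod_congr rfl fun a ha => by
    rw [Finset.prod_congr rfl fun i hi => (Finset.mem_filter.1 hi).2, Finset.prod_const,
      hcount a ha, pow_add, pow_ite, pow_one, pow_zero]]
  rw [Finset.prod_mul_distrib, Finset.prod_ite_eq, if_pos (hmem l hl), Finset.prod_pow, hprodT,
    ← pow_mul]
  obtain ⟨d, hd'⟩ := hd
  have hexp : (∑ i ∈ Finset.range e, i) * c = e * d := by
    have h3 := Finset.sum_range_id_mul_two e
    have h4 : (∑ i ∈ Finset.range e, i) * c * 2 = e * d * 2 := by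
      rw [mul_right_comm, h3, mul_assoc, mul_comm (e - 1), hd']
      ring
    exact Nat.eq_of_mul_eq_mul_right two_pos h4
  rw [hexp, pow_mul, hz.pow_eq_one, one_pow, one_mul]

section

variable {α : Type*} [Fintype α] [DecidableEq α] {p : ℕ} [Fact p.Prime]
  {G : Subgroup (Equiv.Perm α)}

/-- The character of degree `p` is one on the nontrivial elements of the complement. -/
theorem char_eq_one (hα : Fintype.card α = p) [IsPretransitive G α] {P : Sylow p G} {E : Subgroup G}
    (S : Data G P E) (hp2 : p ≠ 2) (hperf : commutator G = ⊤) {χ : G → ℂ}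
    (hχ : Cfsg.IsIrrCharacter G χ) (hχ1 : χ 1 = p) (j : ℕ) (hj : ¬ orderOf S.x ∣ j) :
    χ (S.x ^ j) = 1 := by
  classical
  haveI := Fintype.ofFinite G
  have hp : p.Prime := Fact.out
  obtain ⟨n, ρ, hirr, hρ⟩ := hχ
  haveI := hirr
  have hnp : n = p := by
    have h1 := congrFun hρ 1
    rw [Representation.char_one, hχ1, Module.finrank_fintype_fun_eq_card, Fintype.card_fin] at h1
    exact_mod_cast h1
  subst hnp
  let R : G →* Matrix (Fin n) (Fin n) ℂ :=
    (LinearMap.toMatrixAlgEquiv' : _ ≃ₐ[ℂ] Matrix (Fin n) (Fin n) ℂ).toMonoidHom.comp ρ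
  have htrace : ∀ g, (R g).trace = χ g := fun g => by
    rw [← hρ]
    exact (LinearMap.trace_eq_matrix_trace ℂ (Pi.basisFun ℂ (Fin n)) (ρ g)).symm
  have hup : S.u ^ n = 1 := S.pow_p
  have hvan : ∀ i : ZMod n, i ≠ 0 → χ (upow S.u i) = 0 := by
    intro i hi
    rw [← hρ]
    refine char_eq_zero_of_defect_zero ρ hp (n := 1) (by rw [pow_one]; exact dvd_card hα)
      (not_sq_dvd hα) ?_ _ ?_
    · rw [pow_one, Module.finrank_fintype_fun_eq_card, Fintype.card_fin]
    · have h1 : orderOf (upow S.u i) ∣ n := orderOf_dvd_of_pow_eq_one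
        (SmallDegreeP.upow_pow_p S.u hup i)
      rcases (Nat.dvd_prime hp).1 h1 with h | h
      · exfalso
        refine hi ?_
        rw [orderOf_eq_one_iff, upow] at h
        have h2 := orderOf_dvd_of_pow_eq_one h
        rw [S.orderOf_u] at h2
        rw [← ZMod.natCast_zmod_val i, ZMod.natCast_eq_zero_iff]
        exact h2
      · rw [h]
  have htr : ∀ l : ZMod n, (proj R S.u l).trace = 1 := by
    intro l
    rw [proj, Matrix.trace_smul, Matrix.trace_sum, Finset.sum_eq_single 0]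
    · rw [Matrix.trace_smul, htrace, SmallDegreeP.upow_zero, hχ1, zero_mul, neg_zero,
        AddChar.map_zero_eq_one, one_smul, smul_eq_mul,
        inv_mul_cancel₀ (Nat.cast_ne_zero.2 hp.ne_zero)]
    · intro i _ hi
      rw [Matrix.trace_smul, htrace, hvan i hi, smul_zero]
    · simp
  set P0 := proj R S.u (0 : ZMod n) with hP0
  have hidem : IsIdempotentElem P0 := SmallDegreeP.isIdempotentElem_proj R S.u hup 0
  -- the fixed line
  set L : Module.End ℂ (Fin n → ℂ) := Matrix.toLinAlgEquiv' P0 with hL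
  have hLtr : LinearMap.trace ℂ _ L = 1 := by
    rw [← htr 0, ← hP0]
    exact Matrix.trace_toLin'_eq P0
  have hLidem : IsIdempotentElem L := hidem.map Matrix.toLinAlgEquiv'
  have hproj := (LinearMap.isProj_range_iff_isIdempotentElem L).2 hLidem
  have hfr : Module.finrank ℂ (LinearMap.range L) = 1 := by
    have h1 := hproj.trace
    rw [hLtr] at h1
    exact_mod_cast h1.symm
  obtain ⟨a, hga⟩ : ∃ a : (ZMod n)ˣ, S.x * S.u * S.x⁻¹ = upow S.u (a : ZMod n) :=
    ⟨Units.mk0 _ S.m_ne_zero, by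
      rw [S.conj_eq, Units.val_mk0, SmallDegreeP.upow_natCast S.u hup]⟩
  have hcomm : R S.x * P0 = P0 * R S.x := by
    have h := SmallDegreeP.conj_proj R S.u hup hga 0
    rw [mul_zero, ← hP0] at h
    conv_rhs => rw [← h]
    rw [mul_assoc (R S.x * P0), ← map_mul, inv_mul_cancel, map_one, mul_one]
  obtain ⟨l, hl⟩ : ∃ l : ℂ, R S.x * P0 = l • P0 := by
    obtain ⟨v, hv, hspan⟩ := finrank_eq_one_iff'.1 hfr
    set X : Module.End ℂ (Fin n → ℂ) := Matrix.toLinAlgEquiv' (R S.x) with hX
    have hXL : X * L = L * X := by rw [hX, hL, ← map_mul, hcomm, map_mul]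
    have hXv : X v.1 ∈ LinearMap.range L := by
      obtain ⟨z, hz⟩ := v.2
      exact ⟨X z, by rw [← hz, ← Module.End.mul_apply, ← hXL, Module.End.mul_apply]⟩
    obtain ⟨l, hl⟩ := hspan ⟨_, hXv⟩
    refine ⟨l, Matrix.toLinAlgEquiv'.injective ?_⟩
    rw [map_mul, map_smul, ← hX, ← hL]
    refine LinearMap.ext fun z => ?_
    obtain ⟨d, hd⟩ := hspan ⟨L z, LinearMap.mem_range_self L z⟩
    have hd' : d • v.1 = L z := congrArg Subtype.val hd
    have hl' : l • v.1 = X v.1 := congrArg Subtype.val hl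
    rw [Module.End.mul_apply, LinearMap.smul_apply, ← hd', map_smul, ← hl', smul_comm]
  have hpow : ∀ i : ℕ, R (S.x ^ i) * P0 = l ^ i • P0 := by
    intro i
    induction i with
    | zero => simp
    | succ i ih =>
      rw [pow_succ', map_mul, mul_assoc, ih, mul_smul_comm, hl, smul_smul, pow_succ]
  have hle : l ^ orderOf S.x = 1 := by
    have h1 := hpow (orderOf S.x)
    rw [pow_orderOf_eq_one, map_one, one_mul] at h1
    have h2 := congrArg Matrix.trace h1
    rw [Matrix.trace_smul, hP0, htr 0, smul_eq_mul, mul_one] at h2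
    exact h2.symm
  have hval : ∀ i : ℕ, ¬ orderOf S.x ∣ i → χ (S.x ^ i) = l ^ i := by
    intro i hi
    rw [← htrace]
    conv_lhs => rw [← mul_one (R (S.x ^ i)), ← SmallDegreeP.sum_proj (p := n) R S.u, Finset.mul_sum]
    rw [Matrix.trace_sum, Finset.sum_eq_single (0 : ZMod n)]
    · rw [← hP0, hpow, Matrix.trace_smul, hP0, htr 0, smul_eq_mul, mul_one]
    · intro b _ hb
      set ai : (ZMod n)ˣ := Units.mk0 _ S.m_ne_zero ^ i with hai
      have hgi : S.x ^ i * S.u * (S.x ^ i)⁻¹ = upow S.u (ai : ZMod n) := by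
        rw [hai, Units.val_pow_eq_pow_val, Units.val_mk0, ← Nat.cast_pow,
          SmallDegreeP.upow_natCast S.u hup]
        clear hai ai hi
        induction i with
        | zero => simp
        | succ i ih =>
          rw [pow_succ' S.x, mul_inv_rev,
            show S.x * S.x ^ i * S.u * ((S.x ^ i)⁻¹ * S.x⁻¹) =
              S.x * (S.x ^ i * S.u * (S.x ^ i)⁻¹) * S.x⁻¹ by group,
            ih, ← conj_pow, S.conj_eq, ← pow_mul, ← pow_succ']
      have hne : ((ai⁻¹ : (ZMod n)ˣ) : ZMod n) * b ≠ b := by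
        intro h
        have h1 : ((ai⁻¹ : (ZMod n)ˣ) : ZMod n) = 1 := mul_right_cancel₀ hb (h.trans (one_mul b).symm)
        have h2 : ai = 1 := inv_eq_one.1 (Units.ext h1)
        apply hi
        rw [← S.orderOf_m]
        refine orderOf_dvd_of_pow_eq_one ?_
        have := congrArg Units.val h2
        simpa [hai] using this
      have h1 := SmallDegreeP.conj_proj R S.u hup hgi b
      set b' := ((ai⁻¹ : (ZMod n)ˣ) : ZMod n) * b
      have h2 : R (S.x ^ i) * proj R S.u b = proj R S.u b' * R (S.x ^ i) := by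
        rw [← h1, mul_assoc (R (S.x ^ i) * _), ← map_mul, inv_mul_cancel, map_one, mul_one]
      calc (R (S.x ^ i) * proj R S.u b).trace
          = (R (S.x ^ i) * proj R S.u b * proj R S.u b).trace := by
            rw [mul_assoc, (SmallDegreeP.isIdempotentElem_proj R S.u hup b).eq]
        _ = (proj R S.u b * (proj R S.u b' * R (S.x ^ i))).trace := by
            rw [Matrix.trace_mul_comm, h2]
        _ = 0 := by
            rw [← mul_assoc, SmallDegreeP.proj_mul R S.u hup, if_neg (Ne.symm hne), zero_mul,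
              Matrix.trace_zero]
    · simp
  -- the determinant
  obtain ⟨b, μ, hμ⟩ := exists_eigenbasis ρ S.x
  have hk : ∀ (i : ℕ) q, ρ (S.x ^ i) (b q) = μ q ^ i • b q := by
    intro i q
    induction i with
    | zero => simp
    | succ i ih => rw [pow_succ', map_mul, Module.End.mul_apply, ih, map_smul, (hμ q).1, smul_smul,
        ← pow_succ]
  have hdt : ∀ i : ℕ, LinearMap.trace ℂ _ (ρ (S.x ^ i)) = ∑ q, μ q ^ i ∧
      LinearMap.det (ρ (S.x ^ i)) = ∏ q, μ q ^ i := fun i =>
    trace_det_of_triangular b _ _ fun q => by rw [hk, sub_self]; exact zero_mem _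
  have hprod : ∏ q, μ q = 1 := by
    have h := (hdt 1).2
    simp only [pow_one] at h
    rw [← h, det_eq_one hperf ρ]
  obtain ⟨c, hc⟩ := S.dvd_pred
  have hodd := hp.odd_of_ne_two hp2
  have heven : Even (c * (orderOf S.x - 1)) := by
    rcases Nat.even_or_odd (orderOf S.x) with he | he
    · refine Even.mul_right ?_ _
      obtain ⟨d, hd⟩ := S.dvd_half hp2 hperf
      refine ⟨d, Nat.eq_of_mul_eq_mul_left (orderOf_pos S.x) ?_⟩
      rw [← hc, mul_add, ← hd]
      obtain ⟨q, hq⟩ := hodd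
      omega
    · obtain ⟨q, hq⟩ := he
      exact Even.mul_left ⟨q, by omega⟩ _
  have hl1 : l = 1 := by
    rw [← hprod]
    refine (prod_eq_of_sums (orderOf_pos S.x).ne' heven
      (Complex.isPrimitiveRoot_exp _ (orderOf_pos S.x).ne') μ (fun q => (hμ q).2) hle ?_ ?_).symm
    · rw [Module.finrank_fintype_fun_eq_card, Fintype.card_fin, ← hc]
      have := hp.one_le
      omega
    · intro i hi
      rw [← (hdt i).1, ← hval i hi, ← hρ]
      rfl
  rw [hval j hj, hl1, one_pow]

/-- The exceptional character, as a matrix representation. -/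
theorem exists_exceptional (hα : Fintype.card α = p) [IsPretransitive G α] {P : Sylow p G}
    {E : Subgroup G} (S : Data G P E) (hp2 : p ≠ 2) (hperf : commutator G = ⊤) [IsSimpleGroup G]
    [Fintype G]
    (huniq : ∃! χ : Cfsg.IrrCharacter G, Cfsg.charDegree (χ : G → ℂ) = p)
    (h3 : 3 ≤ orderOf S.x)
    (hNE : Nat.card (Subgroup.normalizer (E : Set G)) = 2 * Nat.card E)
    (hTI : ∀ g : G, g ∉ Subgroup.normalizer (E : Set G) →
      E ⊓ E.map (MulAut.conj g).toMonoidHom = ⊥)
    {t : G} (ht : t ∈ Subgroup.normalizer (E : Set G)) (htx : t * S.x * t⁻¹ ≠ S.x) :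
    ∃ (R : G →* Matrix (Fin (p + 1)) (Fin (p + 1)) ℂ) (ζ : ℂ) (r : ℕ),
      IsPrimitiveRoot ζ (orderOf S.x) ∧ ζ ^ r ≠ ζ ∧
      (∀ j, ¬ orderOf S.x ∣ j → (R (S.x ^ j)).trace = ζ ^ j + (ζ ^ r) ^ j) ∧
      Function.Injective R ∧
      (∀ (a : α) [Fintype (stabilizer G a)], ∑ h : stabilizer G a, R (h : G) = 0) ∧
      (ζ ^ (r + 1) = 1 → ∑ g : G, (R g).trace * (R g).trace = (Nat.card G : ℂ)) := by
  classical
  have hp : p.Prime := Fact.out
  set x := S.x with hxdef
  set e := orderOf x with he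
  have he0 : e ≠ 0 := by omega
  obtain ⟨ζ, hζ⟩ : ∃ ζ : ℂ, IsPrimitiveRoot ζ e := ⟨_, Complex.isPrimitiveRoot_exp _ he0⟩
  have hxE : x ∈ E := S.zpowers_x.le (Subgroup.mem_zpowers x)
  have hE_eq : ∀ y ∈ E, ∃ i : ℕ, i < e ∧ x ^ i = y := by
    intro y hy
    obtain ⟨i, hi⟩ := mem_powers_iff_mem_zpowers.2 (S.zpowers_x.ge hy)
    exact ⟨i % e, Nat.mod_lt _ (Nat.pos_of_ne_zero he0), (pow_mod_orderOf x i).trans hi⟩
  have htinv : t⁻¹ * x * t ∈ E := by
    have h1 := (Subgroup.mem_normalizer_iff.1 (inv_mem ht) x).1 hxE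
    rwa [inv_inv] at h1
  obtain ⟨r, -, hr⟩ := hE_eq _ htinv
  have htE : t ∉ E := by
    intro h
    obtain ⟨i, -, rfl⟩ := hE_eq t h
    apply htx
    group
  have hr1 : x ^ r ≠ x := fun h => htx (by
    have h1 : t⁻¹ * x * t = x := hr.symm.trans h
    calc t * x * t⁻¹ = t * (t⁻¹ * x * t) * t⁻¹ := by rw [h1]
      _ = x := by group)
  have hζr : ζ ^ r ≠ ζ := fun h => hr1 (by
    have h1 : ζ ^ (r + (e - 1)) = 1 := by
      rw [pow_add, h, ← pow_succ', Nat.sub_add_cancel (Nat.pos_of_ne_zero he0), hζ.pow_eq_one]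
    have h2 : x ^ (r + (e - 1)) = 1 := orderOf_dvd_iff_pow_eq_one.1 ((hζ.pow_eq_one_iff_dvd _).1 h1)
    calc x ^ r = x ^ (r + (e - 1)) * x := by
          rw [← pow_succ, add_assoc, Nat.sub_add_cancel (Nat.pos_of_ne_zero he0), pow_add,
            show x ^ e = 1 from pow_orderOf_eq_one x, mul_one]
      _ = x := by rw [h2, one_mul])
  haveI := Fintype.ofFinite E
  let ι : Fin e → E := fun i => ⟨x ^ (i : ℕ), pow_mem hxE _⟩
  have hι : Function.Bijective ι := by
    refine ⟨fun i j h => Fin.ext (pow_injOn_Iio_orderOf i.2 j.2 (congrArg Subtype.val h)), ?_⟩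
    rintro ⟨y, hy⟩
    obtain ⟨i, hi, rfl⟩ := hE_eq y hy
    exact ⟨⟨i, hi⟩, rfl⟩
  have hsumE : ∀ F : E → ℂ, ∑ y, F y = ∑ i ∈ Finset.range e, F ⟨x ^ i, pow_mem hxE i⟩ := by
    intro F
    rw [← Fin.sum_univ_eq_sum_range (fun i => F ⟨x ^ i, pow_mem hxE i⟩) e]
    exact (Fintype.sum_bijective ι hι _ _ fun i => rfl).symm
  have hgen : ∀ y : E, y ∈ Subgroup.zpowers (⟨x, hxE⟩ : E) := fun y => by
    obtain ⟨i, -, hi⟩ := hE_eq y y.2
    exact Subgroup.mem_zpowers_iff.2 ⟨i, Subtype.ext (by simpa using hi)⟩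
  let ζu : ℂˣ := Units.mk0 ζ (hζ.ne_zero he0)
  let μ : E →* ℂˣ := monoidHomOfForallMemZpowers hgen (g' := ζu)
    (orderOf_dvd_of_pow_eq_one (Units.ext (by
      rw [Units.val_pow_eq_pow_val, ← Subgroup.orderOf_coe, Units.val_one]
      exact hζ.pow_eq_one)))
  have hμ : ∀ i : ℕ, ((μ ⟨x ^ i, pow_mem hxE i⟩ : ℂˣ) : ℂ) = ζ ^ i := fun i => by
    rw [show (⟨x ^ i, pow_mem hxE i⟩ : E) = ⟨x, hxE⟩ ^ i from rfl, map_pow,
      monoidHomOfForallMemZpowers_apply_gen, Units.val_pow_eq_pow_val]
    rfl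
  set f : E → ℂ := fun y => 1 - (μ y : ℂ) with hf
  have hf_pow : ∀ i : ℕ, f ⟨x ^ i, pow_mem hxE i⟩ = 1 - ζ ^ i := fun i => by rw [hf]; simp only [hμ]
  set Φ : G → ℂ := Cfsg.indFun E f with hΦ
  have hΦgen : Cfsg.IsGeneralizedCharacter G Φ :=
    isGen_indFun E (isGen_sub isGen_one (isGen_of_isIrr (isIrr_linChar μ)))
  have hΦcl : Cfsg.IsClassFunction G Φ := isClassFunction_indFun E f
  have hf1 : f 1 = 0 := by simp [hf]
  have hΦ1 : Φ 1 = 0 := by rw [hΦ, indFun_one, hf1, mul_zero]
  have hidx : (E.subgroupOf (Subgroup.normalizer (E : Set G))).index = 2 := by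
    have h1 := Subgroup.card_mul_index (E.subgroupOf (Subgroup.normalizer (E : Set G)))
    rw [Nat.card_congr (Subgroup.subgroupOfEquivOfLe (Subgroup.le_normalizer (H := E))).toEquiv, hNE,
      mul_comm 2] at h1
    exact Nat.eq_of_mul_eq_mul_left Nat.card_pos h1
  have hcoset : ∀ g ∈ Subgroup.normalizer (E : Set G), g ∉ E → t⁻¹ * g ∈ E := by
    intro g hg hgE
    exact (Subgroup.mul_mem_iff_of_index_two hidx (a := (⟨t, ht⟩ : Subgroup.normalizer (E : Set G))⁻¹)
      (b := ⟨g, hg⟩)).2 (iff_of_false (fun h => htE (by simpa [Subgroup.mem_subgroupOf] using h)) hgE)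
  have htpow : ∀ i : ℕ, t⁻¹ * x ^ i * t = x ^ (r * i) := fun i => by
    have h1 := conj_pow (i := i) (a := t⁻¹) (b := x)
    rw [inv_inv, ← hr, ← pow_mul] at h1
    exact h1.symm
  have hcard : ((Finset.univ : Finset G).filter fun g => g ∈ E).card = e := by
    rw [← Fintype.card_subtype, ← Nat.card_eq_fintype_card, he]
    exact S.card_E
  have hcard' : ((Finset.univ : Finset G).filter fun g => t⁻¹ * g ∈ E).card = e := by
    rw [← hcard]
    refine Finset.card_bij (fun g _ => t⁻¹ * g) (fun g hg => by simpa using hg)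
      (fun g _ g' _ h => mul_left_cancel h) (fun g hg => ⟨t * g, by simpa using hg, by simp⟩)
  have hΦE : ∀ i : ℕ, Φ (x ^ i) = (1 - ζ ^ i) + (1 - (ζ ^ r) ^ i) := by
    intro i
    by_cases hi : e ∣ i
    · obtain ⟨q, rfl⟩ := hi
      rw [pow_mul, pow_orderOf_eq_one, one_pow, hΦ1, pow_mul ζ, hζ.pow_eq_one, one_pow, ← pow_mul,
        show r * (e * q) = e * (r * q) by ring, pow_mul, hζ.pow_eq_one, one_pow]
      ring
    have hxi : x ^ i ≠ 1 := fun h => hi (orderOf_dvd_of_pow_eq_one h)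
    have hterm : ∀ g : G, Cfsg.extendByZero E f (g⁻¹ * x ^ i * g) =
        (if g ∈ E then 1 - ζ ^ i else 0) + (if t⁻¹ * g ∈ E then 1 - (ζ ^ r) ^ i else 0) := by
      intro g
      by_cases hg : g ∈ E
      · have hg' : t⁻¹ * g ∉ E := fun h => htE (by
          have := E.mul_mem hg (E.inv_mem h)
          simpa [mul_assoc] using this)
        rw [if_pos hg, if_neg hg', add_zero]
        obtain ⟨q, -, rfl⟩ := hE_eq g hg
        rw [show (x ^ q)⁻¹ * x ^ i * x ^ q = x ^ i by group,
          extendByZero_of_mem E f (pow_mem hxE i), hf_pow]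
      rw [if_neg hg, zero_add]
      by_cases hgt : t⁻¹ * g ∈ E
      · rw [if_pos hgt]
        obtain ⟨q, -, hq⟩ := hE_eq _ hgt
        have hgq : g = t * x ^ q := by rw [hq, mul_inv_cancel_left]
        rw [hgq, show (t * x ^ q)⁻¹ * x ^ i * (t * x ^ q) = (x ^ q)⁻¹ * (t⁻¹ * x ^ i * t) * x ^ q by
          group, htpow, show (x ^ q)⁻¹ * x ^ (r * i) * x ^ q = x ^ (r * i) by group,
          extendByZero_of_mem E f (pow_mem hxE _), hf_pow, pow_mul]
      rw [if_neg hgt]
      refine extendByZero_of_not_mem E f fun hmem => ?_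
      have hgN : g ∉ Subgroup.normalizer (E : Set G) := fun h => hgt (hcoset g h hg)
      have h1 : x ^ i ∈ E ⊓ E.map (MulAut.conj g).toMonoidHom :=
        ⟨pow_mem hxE i, ⟨_, hmem, by
          show g * (g⁻¹ * x ^ i * g) * g⁻¹ = x ^ i
          group⟩⟩
      rw [hTI g hgN, Subgroup.mem_bot] at h1
      exact hxi h1
    rw [hΦ, Cfsg.indFun, Finset.sum_congr rfl fun g _ => hterm g, Finset.sum_add_distrib,
      Finset.sum_ite, Finset.sum_ite, Finset.sum_const_zero, add_zero, Finset.sum_const_zero,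
      add_zero, Finset.sum_const, Finset.sum_const, hcard, hcard', nsmul_eq_mul, nsmul_eq_mul,
      S.card_E, ← he]
    field_simp
  have hcardE : Nat.card E = e := S.card_E
  have heC : (e : ℂ) ≠ 0 := Nat.cast_ne_zero.2 he0
  have hinner : ∀ θ : G → ℂ, Cfsg.IsClassFunction G θ →
      Cfsg.classInner Φ θ = (e : ℂ)⁻¹ * ∑ i ∈ Finset.range e, (1 - ζ ^ i) * conj (θ (x ^ i)) := by
    intro θ hθ
    rw [hΦ, classInner_indFun E f hθ, Cfsg.classInner, hcardE, hsumE]
    simp only [hf_pow]
  have hζ1 : ζ ≠ 1 := hζ.ne_one (by omega)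
  have hζre : (ζ ^ r) ^ e = 1 := by rw [← pow_mul, mul_comm, pow_mul, hζ.pow_eq_one, one_pow]
  have hζr1 : ζ ^ r ≠ 1 := fun h => by
    have h1 : x ^ r = 1 := by
      rw [← orderOf_dvd_iff_pow_eq_one, ← he, hζ.eq_orderOf]
      exact orderOf_dvd_of_pow_eq_one h
    rw [h1] at hr
    apply (orderOf_eq_one_iff.not.1 (show orderOf x ≠ 1 by omega))
    calc x = t * (t⁻¹ * x * t) * t⁻¹ := by group
      _ = 1 := by rw [← hr, mul_one, mul_inv_cancel]
  have hΦΦ : Cfsg.classInner Φ Φ = 3 := by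
    rw [hinner Φ hΦcl]
    simp only [hΦE, map_add, mul_add, Finset.sum_add_distrib]
    rw [sum_one_sub_mul he0 hζ.pow_eq_one hζ.pow_eq_one hζ1 hζ1,
      sum_one_sub_mul he0 hζ.pow_eq_one hζre hζ1 hζr1, if_pos rfl, if_neg (Ne.symm hζr)]
    field_simp
    ring
  have hΦθ : ∀ θ : G → ℂ, Cfsg.IsClassFunction G θ → (∀ i, ¬ e ∣ i → θ (x ^ i) = 1) →
      Cfsg.classInner Φ θ = 1 := by
    intro θ hθ h1
    rw [hinner θ hθ, Finset.sum_congr rfl (g := fun i => (1 : ℂ) - ζ ^ i) fun i hi => ?_,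
      Finset.sum_sub_distrib, sum_pow_root hζ.pow_eq_one, if_neg hζ1, sub_zero, Finset.sum_const,
      Finset.card_range, nsmul_eq_mul, mul_one, inv_mul_cancel₀ heC]
    rcases Nat.eq_zero_or_pos i with rfl | hi0
    · simp
    · rw [h1 i fun hd => by
        have := Nat.le_of_dvd hi0 hd
        have := Finset.mem_range.1 hi
        omega, map_one, mul_one]
  obtain ⟨χ, hχdeg, hχuniq⟩ := huniq
  have hχ1 : (χ : G → ℂ) 1 = p := (charDegree_eq_iff (isCharacter_of_isIrr χ.2) p).1 hχdeg
  have hχE : ∀ i, ¬ e ∣ i → (χ : G → ℂ) (x ^ i) = 1 := fun i hi =>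
    char_eq_one hα S hp2 hperf χ.2 hχ1 i hi
  set one : G → ℂ := fun _ => 1 with hone
  have hone_irr : Cfsg.IsIrrCharacter G one := isIrr_one
  have h10 : Cfsg.classInner one (χ : G → ℂ) = 0 := classInner_isIrr_ne hone_irr χ.2 fun h => by
    have := congrFun h 1
    simp only [hone, hχ1] at this
    have : p = 1 := by exact_mod_cast this.symm
    exact hp.ne_one this
  have h01 : Cfsg.classInner (χ : G → ℂ) one = 0 := by rw [classInner_conj_symm, h10, map_zero]
  have hΦone := hΦθ one (isClassFunction_of_isIrr hone_irr) fun i _ => rfl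
  have hΦχ := hΦθ (χ : G → ℂ) (isClassFunction_of_isIrr χ.2) hχE
  have honeΦ : Cfsg.classInner one Φ = 1 := by rw [classInner_conj_symm, hΦone, map_one]
  have hχΦ : Cfsg.classInner (χ : G → ℂ) Φ = 1 := by rw [classInner_conj_symm, hΦχ, map_one]
  set X : G → ℂ := one + (χ : G → ℂ) - Φ with hX
  have hXX : Cfsg.classInner X X = 1 := by
    simp only [hX, classInner_sub_left, classInner_sub_right, classInner_add_left,
      classInner_add_right, classInner_isIrr_self hone_irr, classInner_isIrr_self χ.2, h10, h01,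
      hΦone, hΦχ, honeΦ, hχΦ, hΦΦ]
    ring
  have hX1 : X 1 = ((p + 1 : ℕ) : ℂ) := by
    rw [hX, Pi.sub_apply, Pi.add_apply, hΦ1, hχ1, hone]
    push_cast
    ring
  have hXirr : Cfsg.IsIrrCharacter G X := isIrr_of_gen_norm_one
    (isGen_sub (isGen_add (isGen_of_isIrr hone_irr) (isGen_of_isIrr χ.2)) hΦgen) hXX
    (by rw [hX1, Complex.natCast_re]; exact Nat.cast_nonneg _)
  obtain ⟨n, ρ, -, hρ⟩ := id hXirr
  have hn : n = p + 1 := by
    have h1 := congrFun hρ 1
    rw [Representation.char_one, hX1, Module.finrank_fintype_fun_eq_card, Fintype.card_fin] at h1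
    exact_mod_cast h1
  subst hn
  let R : G →* Matrix (Fin (p + 1)) (Fin (p + 1)) ℂ :=
    (LinearMap.toMatrixAlgEquiv' : _ ≃ₐ[ℂ] Matrix (Fin (p + 1)) (Fin (p + 1)) ℂ).toMonoidHom.comp ρ
  have htrace : ∀ g, (R g).trace = X g := fun g => by
    rw [← hρ]
    exact (LinearMap.trace_eq_matrix_trace ℂ (Pi.basisFun ℂ (Fin (p + 1))) (ρ g)).symm
  have hsum0 : ∀ (a : α) [Fintype (stabilizer G a)], ∑ h : stabilizer G a, X (h : G) = 0 := by
    intro a _
    set H := stabilizer G a with hH
    set π : G → ℂ := Cfsg.indFun H (fun _ => (1 : ℂ)) with hπ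
    have hπc : Cfsg.IsCharacter G π := isCharacter_indFun H isCharacter_one
    haveI : Nonempty α := ⟨a⟩
    have hπ1 : π 1 = p := by
      rw [hπ, indFun_one, mul_one, hH, index_stabilizer_of_transitive, Nat.card_eq_fintype_card, hα]
    obtain ⟨c, hc⟩ := exists_nat_coeff hπc
    set Xi : Cfsg.IrrCharacter G := ⟨X, hXirr⟩
    have hcX : (c Xi : ℂ) = Cfsg.classInner π X := by
      conv_rhs => rw [hc]
      exact (classInner_irr_coeff (fun ψ => (c ψ : ℂ)) Xi).symm
    have hdeg : ∀ ψ : Cfsg.IrrCharacter G, ∃ q : ℕ, (ψ : G → ℂ) 1 = q := fun ψ =>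
      exists_degree (isCharacter_of_isIrr ψ.2)
    choose dg hdg using hdeg
    have hsum : ∑ ψ, c ψ * dg ψ = p := by
      have h1 := congrFun hc 1
      rw [hπ1, Finset.sum_apply] at h1
      simp only [Pi.smul_apply, hdg, smul_eq_mul] at h1
      exact_mod_cast h1.symm
    have hdX : dg Xi = p + 1 := by exact_mod_cast (hdg Xi).symm.trans hX1
    have hle := Finset.single_le_sum (f := fun ψ => c ψ * dg ψ) (fun _ _ => Nat.zero_le _)
      (Finset.mem_univ Xi)
    simp only [hsum, hdX] at hle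
    have hc0 : c Xi = 0 := by
      by_contra hne
      have := (Nat.le_mul_of_pos_left (p + 1) (Nat.pos_of_ne_zero hne)).trans hle
      omega
    rw [hc0, Nat.cast_zero, hπ, classInner_indFun H _ (isClassFunction_of_isIrr hXirr),
      Cfsg.classInner, eq_comm, mul_eq_zero] at hcX
    have h2 := congrArg conj (hcX.resolve_left (inv_ne_zero (subgroup_card_ne_zero H)))
    rw [map_zero, map_sum] at h2
    rw [← h2]
    exact Finset.sum_congr (Finset.eq_of_subset_of_card_le (fun _ _ => Finset.mem_univ _) (by simp))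
      fun h _ => by simp
  refine ⟨R, ζ, r, hζ, hζr, fun j hj => ?_, ?_, fun a _ => ?_, fun hreal => ?_⟩
  · rw [htrace, hX, Pi.sub_apply, Pi.add_apply, hΦE, hχE j hj, hone]
    ring
  · rw [← MonoidHom.ker_eq_bot_iff]
    refine (MonoidHom.normal_ker R).eq_bot_or_eq_top.resolve_right fun htop => ?_
    haveI : Nonempty α := Fintype.card_pos_iff.1 (hα ▸ hp.pos)
    haveI := Fintype.ofFinite (stabilizer G (Classical.arbitrary α))
    have h1 := hsum0 (Classical.arbitrary α)
    simp only [← htrace, show ∀ g : G, R g = 1 from fun g => by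
      have : g ∈ R.ker := htop ▸ Subgroup.mem_top g
      exact this, Matrix.trace_one, Finset.sum_const, Finset.card_univ, nsmul_eq_mul] at h1
    rcases mul_eq_zero.1 h1 with h | h
    · exact Fintype.card_ne_zero (Nat.cast_eq_zero.1 h)
    · rw [Fintype.card_fin] at h
      exact Nat.succ_ne_zero p (Nat.cast_eq_zero.1 h)
  · set M := ∑ h : stabilizer G a, R (h : G) with hM
    have hMh : ∀ h : stabilizer G a, R (h : G) * M = M := fun h => by
      rw [hM, Finset.mul_sum]
      exact Fintype.sum_equiv (Equiv.mulLeft h) _ _ fun q => by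
        rw [← map_mul, Equiv.coe_mulLeft, Subgroup.coe_mul]
    have hMM : M * M = (Fintype.card (stabilizer G a) : ℂ) • M := by
      conv_lhs => rw [hM, Finset.sum_mul]
      rw [Finset.sum_congr rfl fun h _ => hMh h, Finset.sum_const, Finset.card_univ,
        Nat.cast_smul_eq_nsmul]
    have hc : (Fintype.card (stabilizer G a) : ℂ) ≠ 0 := Nat.cast_ne_zero.2 Fintype.card_ne_zero
    set q : Matrix (Fin (p + 1)) (Fin (p + 1)) ℂ :=
      (Fintype.card (stabilizer G a) : ℂ)⁻¹ • M with hq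
    have hqi : IsIdempotentElem (Matrix.toLinAlgEquiv' q) := by
      refine IsIdempotentElem.map ?_ Matrix.toLinAlgEquiv'
      rw [IsIdempotentElem, hq, smul_mul_smul_comm, hMM, smul_smul, mul_assoc,
        inv_mul_cancel₀ hc, mul_one]
    have hqt : LinearMap.trace ℂ _ (Matrix.toLinAlgEquiv' q) = 0 := by
      have h1 : LinearMap.trace ℂ _ (Matrix.toLinAlgEquiv' q) = q.trace := Matrix.trace_toLin'_eq q
      rw [h1, hq, Matrix.trace_smul, hM, Matrix.trace_sum]
      simp only [htrace]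
      rw [hsum0 a, smul_zero]
    have h2 := (LinearMap.IsIdempotentElem.trace_eq_zero_iff hqi).1 hqt
    rw [map_eq_zero_iff _ Matrix.toLinAlgEquiv'.injective, hq, smul_eq_zero] at h2
    exact h2.resolve_left (inv_ne_zero hc)
  · have hconjpow : ∀ i : ℕ, conj (1 - ζ ^ i) = 1 - ζ ^ (r * i) := by
      intro i
      have hinv : ζ⁻¹ = ζ ^ r := inv_eq_of_mul_eq_one_left (by rw [← pow_succ, hreal])
      rw [map_sub, map_one, map_pow, ← Complex.inv_eq_conj
        (Complex.norm_eq_one_of_pow_eq_one hζ.pow_eq_one he0), hinv, pow_mul]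
    have hext : ∀ z : G, conj (Cfsg.extendByZero E f z) = Cfsg.extendByZero E f (t⁻¹ * z * t) := by
      intro z
      by_cases hz : z ∈ E
      · obtain ⟨i, -, rfl⟩ := hE_eq z hz
        rw [htpow, extendByZero_of_mem E f (pow_mem hxE i), extendByZero_of_mem E f (pow_mem hxE _),
          hf_pow, hf_pow, hconjpow]
      · rw [extendByZero_of_not_mem E f hz, map_zero, extendByZero_of_not_mem E f]
        intro h
        apply hz
        have := (Subgroup.mem_normalizer_iff.1 ht _).1 h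
        simpa [mul_assoc] using this
    have hΦreal : ∀ g, conj (Φ g) = Φ g := by
      intro g
      simp only [hΦ, Cfsg.indFun, map_mul, map_inv₀, Complex.conj_natCast, map_sum, hext]
      congr 1
      exact Fintype.sum_equiv (Equiv.mulRight t) _ _ fun h => by simp [mul_assoc]
    have hχreal : ∀ g, conj ((χ : G → ℂ) g) = (χ : G → ℂ) g := by
      intro g
      have hirr := isIrr_conj χ.2
      have h1 := hχuniq ⟨_, hirr⟩ ((charDegree_eq_iff (isCharacter_of_isIrr hirr) p).2 (by simp [hχ1]))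
      exact congrFun (congrArg Subtype.val h1) g
    have hXreal : ∀ g, conj (X g) = X g := fun g => by
      simp [hX, hone, hΦreal, hχreal]
    have h1 := hXX
    rw [Cfsg.classInner, inv_mul_eq_one₀ natCard_ne_zero] at h1
    rw [h1]
    exact Finset.sum_congr rfl fun g _ => by rw [htrace, hXreal]

end

end CfsgLib.PrimeDegreeTI
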