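import Cfsg.Agent.PrimeDegreeTI.Linear
import Cfsg.Agent.CyclicTI.Orbits
import Cfsg.Agent.SmallDegreeP.Fixed

/-!
# Simple modules in characteristic `p` of a group with a semiregular normalizer of order `p e`

The fixed space of an element of order `p` acting with nilpotency index less than `p` is a line.
-/

set_option autoImplicit false
set_option linter.style.haveILetI false
set_option linter.unusedSectionVars false

namespace CfsgLib.PrimeDegreeTI

open Module
open CfsgLib.SmallDegreeP (adHom adHom_apply)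

/-- An element `u` of order `p` and an element `x` of order `e` normalizing it, such that the group
they generate controls the fusion of `⟨u⟩`. -/
structure Frame (p : ℕ) (G : Type*) [Group G] where
  /-- the element of order `p` -/
  u : G
  /-- the element of order `e` -/
  x : G
  /-- the order of `x` -/
  e : ℕ
  /-- the exponent of the conjugation -/
  m : ℕ
  orderOf_u : orderOf u = p
  orderOf_x : orderOf x = e
  three_le : 3 ≤ e
  dvd_half : e ∣ (p - 1) / 2
  conj_eq : x * u * x⁻¹ = u ^ m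
  orderOf_m : orderOf (m : ZMod p) = e
  semiregular : ∀ z ∈ Subgroup.zpowers u, ∀ g : G, g⁻¹ * z * g ∈ Subgroup.closure {u, x} →
    g ∉ Subgroup.closure {u, x} → z = 1

variable {p : ℕ} [Fact p.Prime] {G : Type*} [Group G] (D : Frame p G)

theorem Frame.e_pos : 0 < D.e := by have := D.three_le; omega

theorem Frame.dvd_pred : D.e ∣ p - 1 := by
  have hp : p.Prime := Fact.out
  rcases hp.eq_two_or_odd with h | h
  · subst h
    have h0 : (D.m : ZMod 2) ≠ 0 := fun h0 => by
      have := D.orderOf_m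
      rw [h0, orderOf_zero] at this
      have := D.three_le
      omega
    rw [← D.orderOf_m]
    exact ZMod.orderOf_dvd_card_sub_one h0
  · exact D.dvd_half.trans (Nat.div_dvd_of_dvd (by omega))

theorem Frame.seven_le (D : Frame p G) : 7 ≤ p := by
  have hp : p.Prime := Fact.out
  have h3 := D.three_le
  have h1 := Nat.le_of_dvd (by have := hp.two_le; omega) D.dvd_pred
  have h2 := Nat.le_of_dvd (by omega) D.dvd_half
  omega

theorem Frame.lt_p : D.e < p := by
  have h7 := D.seven_le
  have := Nat.le_of_dvd (by omega) D.dvd_pred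
  omega

theorem Frame.pow_e_x : D.x ^ D.e = 1 := D.orderOf_x ▸ pow_orderOf_eq_one D.x

theorem Frame.pow_p_u : D.u ^ p = 1 := by
  have := pow_orderOf_eq_one D.u
  rwa [D.orderOf_u] at this

theorem Frame.conj_pow_eq (j : ℕ) : D.x ^ j * D.u * (D.x ^ j)⁻¹ = D.u ^ (D.m ^ j) := by
  induction j with
  | zero => simp
  | succ j ih =>
    rw [pow_succ' D.x, mul_inv_rev,
      show D.x * D.x ^ j * D.u * ((D.x ^ j)⁻¹ * D.x⁻¹) =
        D.x * (D.x ^ j * D.u * (D.x ^ j)⁻¹) * D.x⁻¹ by group,
      ih, ← conj_pow, D.conj_eq, ← pow_mul, ← pow_succ']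

theorem Frame.exists_inv_conj (j : ℕ) : ∃ b : ℕ, (D.x ^ j)⁻¹ * D.u * D.x ^ j = D.u ^ b := by
  have h : (D.x ^ j)⁻¹ = D.x ^ (j * (D.e - 1)) := by
    rw [inv_eq_iff_mul_eq_one, ← pow_add,
      show j + j * (D.e - 1) = D.e * j by
        conv_rhs => rw [show D.e = (D.e - 1) + 1 by have := D.e_pos; omega]
        ring,
      pow_mul, D.pow_e_x, one_pow]
  refine ⟨D.m ^ (j * (D.e - 1)), ?_⟩
  have h2 := D.conj_pow_eq (j * (D.e - 1))
  rwa [← h, inv_inv] at h2

variable {k : Type*} [Field k] [CharP k p]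

theorem Frame.e_ne_zero : (D.e : k) ≠ 0 := fun h => by
  rw [CharP.cast_eq_zero_iff k p] at h
  exact absurd (Nat.le_of_dvd D.e_pos h) (not_le.2 D.lt_p)

theorem Frame.m_pow_e : (D.m : k) ^ D.e = 1 := by
  have h : (D.m : ZMod p) ^ D.e = 1 := D.orderOf_m ▸ pow_orderOf_eq_one _
  have h' := congrArg (ZMod.castHom (dvd_refl p) k) h
  simpa using h'

theorem Frame.m_pow_ne_one {j : ℕ} (hj : ¬ D.e ∣ j) : (D.m : k) ^ j ≠ 1 := fun h => by
  refine hj (D.orderOf_m ▸ orderOf_dvd_of_pow_eq_one ?_)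
  refine (ZMod.castHom (dvd_refl p) k).injective ?_
  simpa using h

variable {V : Type*} [AddCommGroup V] [Module k V] (ρ : Representation k G V)

theorem Frame.rho_x_pow_e : ρ D.x ^ D.e = 1 := by rw [← map_pow, D.pow_e_x, map_one]

theorem Frame.unipotent_pow_p : (ρ D.u - 1) ^ p = 0 := by
  have h : Polynomial.aeval (ρ D.u) ((Polynomial.X - 1 : Polynomial k) ^ p) =
      Polynomial.aeval (ρ D.u) (Polynomial.X ^ p - 1 : Polynomial k) := by
    rw [sub_pow_char, one_pow]
  simp only [map_pow, map_sub, map_one, Polynomial.aeval_X] at h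
  rw [h, ← map_pow, D.pow_p_u, map_one, sub_self]

/-- Conjugation by `x ^ j` multiplies the chain vectors by scalars, up to higher terms. -/
theorem Frame.hg (j : ℕ) : ρ (D.x ^ j) * (1 + (ρ D.u - 1)) =
    (1 + (ρ D.u - 1)) ^ (D.m ^ j) * ρ (D.x ^ j) := by
  rw [add_sub_cancel, ← map_pow, ← map_mul, ← map_mul]
  congr 1
  exact mul_inv_eq_iff_eq_mul.1 (D.conj_pow_eq j)

theorem Frame.map_eigen {c : k} {y : V} (hy : ρ D.x y = c • y) (j : ℕ) :
    ρ (D.x ^ j) y = c ^ j • y := by
  induction j with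
  | zero => simp
  | succ j ih => rw [pow_succ', map_mul, Module.End.mul_apply, ih, map_smul, hy, smul_smul, pow_succ]

theorem Frame.chain_mem {c : k} {y : V} (hy : ρ D.x y = c • y) (j i : ℕ) (U : Submodule k V)
    (hU : ∀ l, i < l → ((ρ D.u - 1) ^ l) y ∈ U) :
    ρ (D.x ^ j) (((ρ D.u - 1) ^ i) y) -
      (c ^ j * ((D.m : k) ^ j) ^ i) • ((ρ D.u - 1) ^ i) y ∈ U := by
  have h := map_chain_sub_mem (ρ D.u - 1) (ρ (D.x ^ j)) (D.m ^ j) (D.hg ρ j)
    (D.map_eigen ρ hy j) i U hU
  rwa [Nat.cast_pow] at h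

theorem Frame.fixed_stable {v : V} (hv : ρ D.u v = v) (j : ℕ) :
    ρ D.u (ρ (D.x ^ j) v) = ρ (D.x ^ j) v := by
  obtain ⟨b, hb⟩ := D.exists_inv_conj j
  have hvb : ρ (D.u ^ b) v = v := by
    rw [map_pow]
    clear hb
    induction b with
    | zero => simp
    | succ b ih => rw [pow_succ, Module.End.mul_apply, hv, ih]
  rw [← Module.End.mul_apply, ← map_mul,
    show D.u * D.x ^ j = D.x ^ j * D.u ^ b by rw [← hb]; group, map_mul, Module.End.mul_apply, hvb]

theorem Frame.mem_ker_stable {v : V} (hv : v ∈ LinearMap.ker (ρ D.u - 1)) :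
    ρ D.x v ∈ LinearMap.ker (ρ D.u - 1) := by
  rw [LinearMap.mem_ker, LinearMap.sub_apply, Module.End.one_apply, sub_eq_zero] at hv ⊢
  simpa using D.fixed_stable ρ hv 1

theorem rho_inv_apply_eigen {g : G} {c : k} {v : V} (hv : v ≠ 0) (h : ρ g v = c • v) :
    c ≠ 0 ∧ ρ g⁻¹ v = c⁻¹ • v := by
  have hback : ρ g⁻¹ (ρ g v) = v := by
    rw [← Module.End.mul_apply, ← map_mul, inv_mul_cancel, map_one, Module.End.one_apply]
  have hc : c ≠ 0 := by
    rintro rfl
    rw [h, zero_smul, map_zero] at hback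
    exact hv hback.symm
  refine ⟨hc, ?_⟩
  rw [h, map_smul] at hback
  rw [eq_inv_smul_iff₀ hc, hback]

/-- The key fact: on a simple module on which `(u - 1) ^ (p - 1)` vanishes, the fixed space of `u`
has dimension at most one. -/
theorem Frame.finrank_ker_le_one [Finite G] [FiniteDimensional k V]
    (hirr : ∀ W : Submodule k V, (∀ g, ∀ v ∈ W, ρ g v ∈ W) → W = ⊥ ∨ W = ⊤) {ζ : k}
    (hζ : IsPrimitiveRoot ζ D.e) (hnil : (ρ D.u - 1) ^ (p - 1) = 0) :
    Module.finrank k (LinearMap.ker (ρ D.u - 1)) ≤ 1 := by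
  classical
  by_contra hlt
  set T : Module.End k V := ρ D.u - 1 with hT
  have hex : ∃ n, T ^ n = 0 := ⟨p - 1, hnil⟩
  obtain ⟨r, hr⟩ : ∃ r, Nat.find hex = r + 1 := by
    refine ⟨Nat.find hex - 1, (Nat.sub_add_cancel ?_).symm⟩
    refine Nat.one_le_iff_ne_zero.2 fun h0 => ?_
    have h1 := Nat.find_spec hex
    rw [h0, pow_zero] at h1
    have : ∀ z : V, z = 0 := fun z => by simpa using LinearMap.congr_fun h1 z
    apply hlt
    rw [show LinearMap.ker T = ⊥ from (Submodule.eq_bot_iff _).2 fun z _ => this z, finrank_bot]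
    omega
  have hr0 : T ^ r ≠ 0 := Nat.find_min hex (by omega)
  have hr1 : T ^ (r + 1) = 0 := hr ▸ Nat.find_spec hex
  have hxe := D.rho_x_pow_e ρ
  have he0 := D.e_ne_zero (k := k)
  obtain ⟨y, c, -, hy0, -, hy⟩ := exists_eigenvector (ρ D.x) he0 hζ hxe ⊤ (LinearMap.ker (T ^ r))
    (fun v _ => trivial) (fun h => hr0 (LinearMap.ker_eq_top.1 (top_le_iff.1 h)))
  rw [LinearMap.mem_ker] at hy0
  set v := (T ^ r) y with hv
  have hTv : v ∈ LinearMap.ker T := by
    rw [LinearMap.mem_ker, hv, ← Module.End.mul_apply, ← pow_succ', hr1, LinearMap.zero_apply]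
  have hxv : ∀ j, ρ (D.x ^ j) v = (c ^ j * ((D.m : k) ^ j) ^ r) • v := by
    intro j
    have h := D.chain_mem ρ hy j r ⊥ fun l hl => by
      rw [Submodule.mem_bot, ← Nat.sub_add_cancel (show r + 1 ≤ l by omega), pow_add,
        Module.End.mul_apply, ← hT, hr1, LinearMap.zero_apply, map_zero]
    rw [Submodule.mem_bot, sub_eq_zero] at h
    exact h
  obtain ⟨w, d, hwT, hwv, -, hw⟩ := exists_eigenvector (ρ D.x) he0 hζ hxe (LinearMap.ker T)
    (Submodule.span k {v}) (fun z hz => D.mem_ker_stable ρ hz) (fun h => hlt (by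
      have h1 := Submodule.finrank_mono h
      rw [finrank_span_singleton hy0] at h1
      exact h1))
  have hw0 : w ≠ 0 := fun h => hwv (h ▸ zero_mem _)
  have hvw : v ∉ Submodule.span k {w} := fun h => by
    obtain ⟨b, hb⟩ := Submodule.mem_span_singleton.1 h
    have hb0 : b ≠ 0 := fun h0 => hy0 (by rw [← hb, h0, zero_smul])
    exact hwv (Submodule.mem_span_singleton.2 ⟨b⁻¹, by rw [← hb, smul_smul, inv_mul_cancel₀ hb0,
      one_smul]⟩)
  obtain ⟨l₀, hl₀, hl₀'⟩ := Submodule.exists_dual_map_eq_bot_of_notMem hvw inferInstance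
  set l : Module.Dual k V := (l₀ v)⁻¹ • l₀ with hl
  have hlv : l v = 1 := by simp [hl, inv_mul_cancel₀ hl₀]
  have hlw : l w = 0 := by
    have : l₀ w ∈ (Submodule.span k {w}).map l₀ :=
      Submodule.mem_map_of_mem (Submodule.mem_span_singleton_self w)
    rw [hl₀', Submodule.mem_bot] at this
    simp [hl, this]
  set φ₀ : Module.End k V :=
    ∑ i ∈ Finset.range (r + 1), (l.comp (T ^ (r - i))).smulRight ((T ^ i) y) with hφ₀
  have hφapp : ∀ z, φ₀ z = ∑ i ∈ Finset.range (r + 1), l ((T ^ (r - i)) z) • (T ^ i) y :=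
    fun z => by simp [hφ₀]
  have hφT : φ₀ * T = T * φ₀ := by
    refine LinearMap.ext fun z => ?_
    rw [Module.End.mul_apply, Module.End.mul_apply, hφapp, hφapp, map_sum, Finset.sum_range_succ',
      Finset.sum_range_succ]
    simp only [map_smul, ← Module.End.mul_apply, ← pow_succ, ← pow_succ']
    rw [Nat.sub_zero, hr1, LinearMap.zero_apply, map_zero, zero_smul, add_zero,
      LinearMap.zero_apply, smul_zero, add_zero]
    refine Finset.sum_congr rfl fun i hi => ?_
    rw [show r - (i + 1) + 1 = r - i by have := Finset.mem_range.1 hi; omega]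
  have hφu : adHom (k := k) ρ D.u φ₀ = φ₀ := by
    have h1 : ρ D.u * φ₀ = φ₀ * ρ D.u := by
      have : φ₀ * T = T * φ₀ := hφT
      rw [hT, mul_sub, sub_mul, mul_one, one_mul] at this
      exact (sub_left_inj.1 this).symm
    rw [adHom_apply, h1, mul_assoc, ← map_mul, mul_inv_cancel, map_one, mul_one]
  have hφv : φ₀ v = v := by
    rw [hφapp, Finset.sum_range_succ, Finset.sum_eq_zero, zero_add, Nat.sub_self, pow_zero,
      Module.End.one_apply, hlv, one_smul]
    intro i hi
    rw [hv, ← Module.End.mul_apply, ← pow_add,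
      show r - i + r = r - i - 1 + (r + 1) by have := Finset.mem_range.1 hi; omega, pow_add, hr1,
      mul_zero, LinearMap.zero_apply, map_zero, zero_smul]
  have hφw : φ₀ w = 0 := by
    rw [hφapp, Finset.sum_range_succ, Finset.sum_eq_zero, zero_add, Nat.sub_self, pow_zero,
      Module.End.one_apply, hlw, zero_smul]
    intro i hi
    rw [show r - i = r - i - 1 + 1 by have := Finset.mem_range.1 hi; omega, pow_succ,
      Module.End.mul_apply, LinearMap.mem_ker.1 hwT, map_zero, map_zero, zero_smul]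
  -- the average over the powers of `x`
  set F : ℕ → Module.End k V := fun j => adHom (k := k) ρ (D.x ^ j) φ₀ with hF
  set φ : Module.End k V := (D.e : k)⁻¹ • ∑ j ∈ Finset.range D.e, F j with hφ
  have hFu : ∀ j, adHom (k := k) ρ D.u (F j) = F j := by
    intro j
    obtain ⟨b, hb⟩ := D.exists_inv_conj j
    have hfix : adHom (k := k) ρ (D.u ^ b) φ₀ = φ₀ := by
      clear hb
      induction b with
      | zero => simp
      | succ b ih => rw [pow_succ, map_mul, Module.End.mul_apply, hφu, ih]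
    rw [hF]
    show adHom (k := k) ρ D.u (adHom (k := k) ρ (D.x ^ j) φ₀) = adHom (k := k) ρ (D.x ^ j) φ₀
    rw [← Module.End.mul_apply, ← map_mul,
      show D.u * D.x ^ j = D.x ^ j * D.u ^ b by rw [← hb]; group, map_mul, Module.End.mul_apply,
      hfix]
  have hshift : ∑ j ∈ Finset.range D.e, F (j + 1) = ∑ j ∈ Finset.range D.e, F j := by
    have h1 := Finset.sum_range_succ' F D.e
    rw [Finset.sum_range_succ] at h1
    have h2 : F D.e = F 0 := by simp only [hF, D.pow_e_x, pow_zero]
    rw [h2] at h1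
    exact (add_right_cancel h1).symm
  have hφN : ∀ g ∈ Subgroup.closure ({D.u, D.x} : Set G), adHom (k := k) ρ g φ = φ := by
    intro g hg
    induction hg using Subgroup.closure_induction with
    | mem g hg =>
      rcases hg with rfl | rfl
      · rw [hφ, map_smul, map_sum]
        exact congrArg _ (Finset.sum_congr rfl fun j _ => hFu j)
      · rw [hφ, map_smul, map_sum, ← hshift]
        refine congrArg _ ?_
        conv_rhs => rw [hshift]
        rw [← hshift]
        refine Finset.sum_congr rfl fun j _ => ?_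
        simp only [hF]
        rw [← Module.End.mul_apply, ← map_mul, ← pow_succ']
    | one => simp
    | mul a b _ _ ha hb => rw [map_mul, Module.End.mul_apply, hb, ha]
    | inv a _ ha =>
      conv_lhs => rw [← ha]
      rw [← Module.End.mul_apply, ← map_mul, inv_mul_cancel, map_one, Module.End.one_apply]
  have hFv : ∀ j, F j v = v ∧ F j w = 0 := by
    intro j
    obtain ⟨ha, ha'⟩ := rho_inv_apply_eigen ρ hy0 (hxv j)
    obtain ⟨-, hb'⟩ := rho_inv_apply_eigen ρ hw0 (D.map_eigen ρ hw j)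
    simp only [hF, adHom_apply, Module.End.mul_apply, ha', hb', map_smul, hφv, hφw, hxv j, map_zero,
      smul_zero, smul_smul, inv_mul_cancel₀ ha, one_smul, and_self]
  have hφv' : φ v = v := by
    rw [hφ, LinearMap.smul_apply, LinearMap.sum_apply, Finset.sum_congr rfl fun j _ => (hFv j).1,
      Finset.sum_const, Finset.card_range, ← Nat.cast_smul_eq_nsmul k, smul_smul,
      inv_mul_cancel₀ he0, one_smul]
  have hφw' : φ w = 0 := by
    rw [hφ, LinearMap.smul_apply, LinearMap.sum_apply, Finset.sum_congr rfl fun j _ => (hFv j).2,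
      Finset.sum_const_zero, smul_zero]
  -- the sum over the cosets
  obtain ⟨W, hW⟩ := CyclicTI.exists_fixed_sum (adHom (k := k) ρ) (Subgroup.closure {D.u, D.x}) D.u p
    (Subgroup.subset_closure (Set.mem_insert _ _)) D.orderOf_u D.semiregular φ hφN
  set C := φ + ∑ i ∈ Finset.range p, adHom (k := k) ρ (D.u ^ i) W with hC
  have hcomm : ∀ g, ρ g * C = C * ρ g := by
    intro g
    have h := hW g
    rw [adHom_apply] at h
    conv_rhs => rw [← h]
    rw [mul_assoc (ρ g * C), ← map_mul, inv_mul_cancel, map_one, mul_one]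
  have hfix : ∀ z, T z = 0 → C z = φ z := by
    intro z hz
    have hinv : ∀ i : ℕ, ρ (D.u ^ i)⁻¹ z = z := by
      intro i
      have h1 : ρ D.u z = z := by simpa [hT, sub_eq_zero] using hz
      have h2 : ρ (D.u ^ i) z = z := by
        induction i with
        | zero => simp
        | succ i ih => rw [pow_succ, map_mul, Module.End.mul_apply, h1, ih]
      conv_lhs => rw [← h2]
      rw [← Module.End.mul_apply, ← map_mul, inv_mul_cancel, map_one, Module.End.one_apply]
    have hgeom : ∑ i ∈ Finset.range p, ρ D.u ^ i = 0 := by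
      rw [SmallDegreeP.geom_sum_eq_pow (p := p) (k := k) (ρ D.u)]
      exact hnil
    rw [hC, LinearMap.add_apply, add_eq_left, LinearMap.sum_apply]
    simp only [adHom_apply, Module.End.mul_apply, hinv]
    rw [Finset.sum_congr rfl fun i _ => by rw [map_pow], ← LinearMap.sum_apply, hgeom,
      LinearMap.zero_apply]
  have hker := hirr (LinearMap.ker C) fun g z hz => by
    rw [LinearMap.mem_ker] at hz ⊢
    rw [← Module.End.mul_apply, ← hcomm, Module.End.mul_apply, hz, map_zero]
  rcases hker with h | h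
  · have : w ∈ LinearMap.ker C := by
      rw [LinearMap.mem_ker, hfix w (LinearMap.mem_ker.1 hwT), hφw']
    rw [h, Submodule.mem_bot] at this
    exact hw0 this
  · have : v ∈ LinearMap.ker C := h ▸ trivial
    rw [LinearMap.mem_ker, hfix v (LinearMap.mem_ker.1 hTv), hφv'] at this
    exact hy0 this

/-- A simple module with `(u - 1) ^ (p - 1) = 0` is one chain. -/
theorem Frame.exists_chain [Finite G] [FiniteDimensional k V]
    (hirr : ∀ W : Submodule k V, (∀ g, ∀ v ∈ W, ρ g v ∈ W) → W = ⊥ ∨ W = ⊤) {ζ : k}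
    (hζ : IsPrimitiveRoot ζ D.e) (hnil : (ρ D.u - 1) ^ (p - 1) = 0) :
    Module.finrank k V ≤ p - 1 ∧ ∀ n, Module.finrank k V = n + 1 →
      ∃ (y : V) (c : k), c ^ D.e = 1 ∧ ρ D.x y = c • y ∧ ((ρ D.u - 1) ^ n) y ≠ 0 ∧
        ((ρ D.u - 1) ^ (n + 1)) y = 0 := by
  classical
  set T : Module.End k V := ρ D.u - 1 with hT
  have h1 := D.finrank_ker_le_one ρ hirr hζ hnil
  have hle : ∀ i, T ^ i = 0 → Module.finrank k V ≤ i := fun i hi => by
    have h2 := finrank_ker_pow_le T i
    rw [hi, LinearMap.ker_zero, finrank_top] at h2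
    exact h2.trans (le_of_le_of_eq (Nat.mul_le_mul_left i h1) (mul_one i))
  refine ⟨hle _ hnil, fun n hn => ?_⟩
  have hn1 : T ^ (n + 1) = 0 := by
    have h2 := (LinearMap.isNilpotent_iff_charpoly (φ := T)).1 ⟨_, hnil⟩
    have h3 := LinearMap.aeval_self_charpoly T
    rwa [h2, map_pow, Polynomial.aeval_X, hn] at h3
  have hn0 : T ^ n ≠ 0 := fun h => by
    have := hle n h
    omega
  obtain ⟨y, c, -, hy0, hc, hy⟩ := exists_eigenvector (ρ D.x) (D.e_ne_zero (k := k)) hζ
    (D.rho_x_pow_e ρ) ⊤ (LinearMap.ker (T ^ n)) (fun v _ => trivial)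
    (fun h => hn0 (LinearMap.ker_eq_top.1 (top_le_iff.1 h)))
  exact ⟨y, c, hc, hy, fun h => hy0 (LinearMap.mem_ker.2 h), by rw [hn1, LinearMap.zero_apply]⟩

end CfsgLib.PrimeDegreeTI
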