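import Mathlib

/-!
# Linear algebra of a unipotent operator and an operator normalizing it

Chains `T ^ i y` of a nilpotent operator, operators acting triangularly on such chains, and sums of
powers of roots of unity.
-/

set_option autoImplicit false
set_option linter.style.haveILetI false
set_option linter.unusedSectionVars false

namespace CfsgLib.PrimeDegreeTI

open Module Polynomial

variable {k : Type*} [Field k]

section Trace

variable {V : Type*} [AddCommGroup V] [Module k V] [FiniteDimensional k V]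

open Module.Basis in
/-- The trace is additive on an invariant subspace and its quotient. -/
theorem trace_eq_trace_add_trace (W : Submodule k V) (f : V →ₗ[k] V) (hf : W ≤ W.comap f) :
    LinearMap.trace k V f =
      LinearMap.trace k W (f.restrict hf) + LinearMap.trace k (V ⧸ W) (W.mapQ W f hf) := by
  classical
  let bW := Module.Free.chooseBasis k W
  let bQ := Module.Free.chooseBasis k (V ⧸ W)
  let b := sumQuot bW bQ
  rw [LinearMap.trace_eq_matrix_trace k b f, LinearMap.trace_eq_matrix_trace k bW,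
    LinearMap.trace_eq_matrix_trace k bQ, Matrix.trace, Fintype.sum_sum_type]
  congr 1
  · refine Finset.sum_congr rfl fun i _ => ?_
    simp only [Matrix.diag_apply, b, sumQuot_inl, LinearMap.toMatrix_apply]
    apply sumQuot_repr_inl_of_mem
  · refine Finset.sum_congr rfl fun i _ => ?_
    simp only [Matrix.diag_apply, LinearMap.toMatrix_apply, sumQuot_repr_inr, b]
    rw [← sumQuot_inr bW bQ i, W.mapQ_apply]
    simp

/-- Trace and determinant of an operator that is triangular in a basis. -/
theorem trace_det_of_triangular {n : ℕ} (b : Basis (Fin n) k V) (f : Module.End k V)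
    (c : Fin n → k)
    (h : ∀ i, f (b i) - c i • b i ∈ Submodule.span k (b '' {j | i < j})) :
    LinearMap.trace k V f = ∑ i, c i ∧ LinearMap.det f = ∏ i, c i := by
  classical
  have hM : ∀ i j, j ≤ i → LinearMap.toMatrix b b f j i = if j = i then c i else 0 := by
    intro i j hji
    have h1 : b.repr (f (b i) - c i • b i) j = 0 := by
      by_contra hne
      exact absurd (b.mem_span_image.1 (h i) (Finsupp.mem_support_iff.2 hne)) (not_lt.2 hji)
    rw [map_sub, map_smul, b.repr_self, Finsupp.sub_apply, Finsupp.smul_apply,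
      Finsupp.single_apply, sub_eq_zero] at h1
    rw [LinearMap.toMatrix_apply, h1]
    by_cases hij : j = i
    · subst hij; simp
    · simp [hij, Ne.symm hij]
  refine ⟨?_, ?_⟩
  · rw [LinearMap.trace_eq_matrix_trace k b f]
    exact Finset.sum_congr rfl fun i _ => by simpa using hM i i le_rfl
  · rw [← LinearMap.det_toMatrix b, Matrix.det_of_isLowerTriangular]
    · exact Finset.prod_congr rfl fun i _ => by simpa using hM i i le_rfl
    · intro j i hji
      have hji' : j < i := hji
      rw [hM i j hji'.le, if_neg hji'.ne]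

end Trace

section Chain

variable {V : Type*} [AddCommGroup V] [Module k V]

/-- A chain of a nilpotent operator is independent. -/
theorem linearIndependent_chain (T : Module.End k V) (y : V) (n : ℕ) (h : (T ^ n) y ≠ 0)
    (h' : (T ^ (n + 1)) y = 0) :
    LinearIndependent k (fun i : Fin (n + 1) => (T ^ (i : ℕ)) y) := by
  classical
  have hz : ∀ l, n + 1 ≤ l → (T ^ l) y = 0 := fun l hl => by
    rw [← Nat.sub_add_cancel hl, pow_add, Module.End.mul_apply, h', map_zero]
  rw [Fintype.linearIndependent_iff]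
  intro g hg
  suffices hs : ∀ i : ℕ, ∀ hi : i < n + 1, g ⟨i, hi⟩ = 0 from fun i => hs i i.2
  intro i
  induction i using Nat.strong_induction_on with
  | _ i ih =>
    intro hi
    have h1 := congrArg (T ^ (n - i)) hg
    rw [map_sum, map_zero, Finset.sum_eq_single ⟨i, hi⟩] at h1
    · rw [map_smul, ← Module.End.mul_apply, ← pow_add,
        show n - i + i = n by omega] at h1
      exact (smul_eq_zero.1 h1).resolve_right h
    · intro j _ hj
      rcases Nat.lt_or_gt_of_ne (fun hji : (j : ℕ) = i => hj (Fin.ext hji)) with hlt | hgt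
      · rw [show g j = 0 from ih j hlt j.2]; simp
      · rw [map_smul, ← Module.End.mul_apply, ← pow_add, hz _ (by omega), smul_zero]
    · simp

/-- The kernels of the powers grow slowly. -/
theorem finrank_ker_pow_le [FiniteDimensional k V] (T : Module.End k V) (i : ℕ) :
    Module.finrank k (LinearMap.ker (T ^ i)) ≤ i * Module.finrank k (LinearMap.ker T) := by
  induction i with
  | zero =>
    rw [pow_zero, Module.End.one_eq_id, LinearMap.ker_id, finrank_bot, zero_mul]
  | succ i ih =>
    let L : LinearMap.ker (T ^ (i + 1)) →ₗ[k] LinearMap.ker (T ^ i) :=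
      (T.comp (LinearMap.ker (T ^ (i + 1))).subtype).codRestrict _ fun z => by
        rw [LinearMap.mem_ker, LinearMap.comp_apply, ← Module.End.mul_apply, ← pow_succ]
        exact z.2
    have hker : Module.finrank k (LinearMap.ker L) ≤ Module.finrank k (LinearMap.ker T) := by
      let J : LinearMap.ker L →ₗ[k] LinearMap.ker T :=
        ((LinearMap.ker (T ^ (i + 1))).subtype.comp (LinearMap.ker L).subtype).codRestrict _
          fun z => LinearMap.mem_ker.2 (congrArg Subtype.val (LinearMap.mem_ker.1 z.2))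
      refine LinearMap.finrank_le_finrank_of_injective (f := J) fun a b hab => ?_
      have hab' : ((J a : V)) = (J b : V) := congrArg Subtype.val hab
      exact Subtype.ext (Subtype.ext hab')
    have h := LinearMap.finrank_range_add_finrank_ker L
    have hr := (LinearMap.range L).finrank_le
    rw [Nat.succ_mul]
    omega

/-- The shape of the powers of `(1 + X) ^ m - 1`. -/
theorem exists_poly (m i : ℕ) :
    ∃ Q : k[X], ((1 + X) ^ m - 1) ^ i = C ((m : k) ^ i) * X ^ i + X ^ (i + 1) * Q := by
  obtain ⟨R, hR⟩ : ∃ R : k[X], (1 + X : k[X]) ^ m - 1 = X * (C (m : k) + X * R) := by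
    induction m with
    | zero => exact ⟨0, by simp⟩
    | succ m ih =>
      obtain ⟨R, hR⟩ := ih
      refine ⟨R * (1 + X) + C (m : k), ?_⟩
      rw [pow_succ, show ((m + 1 : ℕ) : k) = (m : k) + 1 by push_cast; rfl, map_add, map_one]
      linear_combination (1 + X) * hR
  obtain ⟨Q, hQ⟩ : (X : k[X]) ∣ (C (m : k) + X * R) ^ i - C (m : k) ^ i := by
    refine dvd_trans ?_ (sub_dvd_pow_sub_pow _ _ i)
    rw [add_sub_cancel_left]
    exact dvd_mul_right _ _
  refine ⟨Q, ?_⟩
  rw [hR, mul_pow, map_pow, pow_succ, sub_eq_iff_eq_add'.1 hQ]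
  ring

/-- Images of chain vectors under an operator normalizing `1 + T`. -/
theorem map_chain_sub_mem (T g : Module.End k V) (m : ℕ) (hg : g * (1 + T) = (1 + T) ^ m * g)
    {c : k} {y : V} (hy : g y = c • y) (i : ℕ) (U : Submodule k V)
    (hU : ∀ l, i < l → (T ^ l) y ∈ U) :
    g ((T ^ i) y) - (c * (m : k) ^ i) • (T ^ i) y ∈ U := by
  have h1 : g * T = ((1 + T) ^ m - 1) * g := by
    rw [sub_mul, ← hg, mul_add, mul_one, one_mul, add_sub_cancel_left]
  have h2 : ∀ j : ℕ, g * T ^ j = ((1 + T) ^ m - 1) ^ j * g := by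
    intro j
    induction j with
    | zero => simp
    | succ j ih => rw [pow_succ, ← mul_assoc, ih, mul_assoc, h1, ← mul_assoc, ← pow_succ]
  obtain ⟨Q, hQ⟩ := exists_poly (k := k) m i
  have hmem : ∀ Q : k[X], (T ^ (i + 1)) (aeval T Q y) ∈ U := by
    intro Q
    induction Q using Polynomial.induction_on' with
    | add a b ha hb =>
      rw [map_add, LinearMap.add_apply, map_add]
      exact add_mem ha hb
    | monomial l a =>
      rw [aeval_monomial, Module.End.mul_apply, Module.algebraMap_end_apply, map_smul,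
        ← Module.End.mul_apply, ← pow_add]
      exact U.smul_mem _ (hU _ (by omega))
  have h4 : ((1 + T) ^ m - 1) ^ i = aeval T (((1 + X) ^ m - 1) ^ i : k[X]) := by simp
  have h3 : g ((T ^ i) y) = (c * (m : k) ^ i) • (T ^ i) y + c • (T ^ (i + 1)) (aeval T Q y) := by
    rw [← Module.End.mul_apply, h2, Module.End.mul_apply, hy, map_smul, h4, hQ]
    simp only [map_add, map_mul, aeval_C, aeval_X_pow, LinearMap.add_apply, Module.End.mul_apply,
      Module.algebraMap_end_apply, smul_add, smul_smul]
  rw [h3, add_sub_cancel_left]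
  exact U.smul_mem _ (hmem Q)

/-- An invariant subspace of an operator of finite order prime to the characteristic has an
eigenvector outside any subspace not containing it. -/
theorem exists_eigenvector (g : Module.End k V) {e : ℕ} (he : (e : k) ≠ 0) {ζ : k}
    (hζ : IsPrimitiveRoot ζ e) (hg : g ^ e = 1) (W U : Submodule k V) (hW : ∀ v ∈ W, g v ∈ W)
    (hWU : ¬ W ≤ U) : ∃ (v : V) (c : k), v ∈ W ∧ v ∉ U ∧ c ^ e = 1 ∧ g v = c • v := by
  classical
  obtain ⟨v, hvW, hvU⟩ := SetLike.not_le_iff_exists.1 hWU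
  set π : ℕ → V := fun i => ∑ j ∈ Finset.range e, ((ζ⁻¹) ^ i) ^ j • (g ^ j) v with hπ
  have hz : IsPrimitiveRoot ζ⁻¹ e := hζ.inv
  have hsum : ∑ i ∈ Finset.range e, π i = (e : k) • v := by
    rw [hπ, Finset.sum_comm, Finset.sum_eq_single 0]
    · simp [Nat.cast_smul_eq_nsmul]
    · intro j hj hj0
      have h0 : (ζ⁻¹) ^ j ≠ 1 := hz.pow_ne_one_of_pos_of_lt hj0 (Finset.mem_range.1 hj)
      rw [← Finset.sum_smul, show ∑ i ∈ Finset.range e, ((ζ⁻¹) ^ i) ^ j = 0 from ?_, zero_smul]
      rw [Finset.sum_congr rfl fun i _ => (pow_right_comm ζ⁻¹ i j)]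
      refine (mul_eq_zero.1 ?_).resolve_right (sub_ne_zero.2 h0)
      rw [geom_sum_mul, ← pow_mul, mul_comm, pow_mul, hz.pow_eq_one, one_pow, sub_self]
    · intro h
      simp only [Finset.mem_range, not_lt, Nat.le_zero] at h
      simp [h] at he
  obtain ⟨i, hi⟩ : ∃ i, π i ∉ U := by
    by_contra h
    push Not at h
    refine hvU ((U.smul_mem_iff he).1 ?_)
    rw [← hsum]
    exact sum_mem fun i _ => h i
  have hgW : ∀ j : ℕ, (g ^ j) v ∈ W := by
    intro j
    induction j with
    | zero => simpa using hvW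
    | succ j ih => rw [pow_succ', Module.End.mul_apply]; exact hW _ ih
  have hζ0 : ζ ≠ 0 := hζ.ne_zero fun h => he (by rw [h, Nat.cast_zero])
  refine ⟨π i, ζ ^ i, sum_mem fun j _ => W.smul_mem _ (hgW j), hi, by
    rw [← pow_mul, mul_comm, pow_mul, hζ.pow_eq_one, one_pow], ?_⟩
  set F : ℕ → V := fun j => ((ζ⁻¹) ^ i) ^ j • (g ^ j) v
  have hF : F e = F 0 := by
    show ((ζ⁻¹) ^ i) ^ e • (g ^ e) v = ((ζ⁻¹) ^ i) ^ 0 • (g ^ 0) v
    rw [hg, ← pow_mul, mul_comm, pow_mul, hz.pow_eq_one, one_pow, pow_zero, pow_zero]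
  have hshift : ∑ j ∈ Finset.range e, F (j + 1) = ∑ j ∈ Finset.range e, F j := by
    have h1 := Finset.sum_range_succ' F e
    rw [Finset.sum_range_succ, hF] at h1
    exact (add_right_cancel h1).symm
  show g (π i) = _
  rw [hπ]
  simp only [map_sum, map_smul]
  rw [← hshift, Finset.smul_sum]
  refine Finset.sum_congr rfl fun j _ => ?_
  simp only [F]
  rw [smul_smul, pow_succ' g j, Module.End.mul_apply, pow_succ' (((ζ⁻¹) ^ i)) j, ← mul_assoc,
    ← mul_pow, mul_inv_cancel₀ hζ0, one_pow, one_mul]

end Chain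

section Roots

/-- A sum of `h ≡ 1` powers of a nontrivial root of unity. -/
theorem sum_pow_eq_one {b : k} {h e : ℕ} (h1 : 1 ≤ h) (hd : e ∣ h - 1) (hb : b ^ e = 1)
    (hne : b ≠ 1) : ∑ i ∈ Finset.range h, b ^ i = 1 := by
  obtain ⟨l, hl⟩ := hd
  have h0 : ∑ i ∈ Finset.range (h - 1), b ^ i = 0 := by
    refine (mul_eq_zero.1 ?_).resolve_right (sub_ne_zero.2 hne)
    rw [geom_sum_mul, hl, pow_mul, hb, one_pow, sub_self]
  rw [← Nat.sub_add_cancel h1, Finset.sum_range_succ, h0, zero_add, hl, pow_mul, hb, one_pow]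

/-- Two pairs of roots of unity with equal power sums. -/
theorem eq_or_eq_of_power_sums {e : ℕ} (he : (e : k) ≠ 0) (he2 : 2 ≤ e)
    {z s l n : k} (hz : z ^ e = 1) (hs : s ^ e = 1) (hsz : s ≠ z) (hl : l ^ e = 1) (hn : n ^ e = 1)
    (h : ∀ j, j < e → l ^ j + n ^ j = z ^ j + s ^ j) : (l = z ∧ n = s) ∨ (n = z ∧ l = s) := by
  classical
  have hz0 : z ≠ 0 := by
    rintro rfl
    rw [zero_pow (by omega)] at hz
    exact zero_ne_one hz
  have hS : ∀ a : k, a ^ e = 1 →
      ∑ j ∈ Finset.range e, a ^ j * (z⁻¹) ^ j = if a = z then (e : k) else 0 := by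
    intro a ha
    split_ifs with haz
    · rw [haz, Finset.sum_congr rfl fun j _ => by rw [← mul_pow, mul_inv_cancel₀ hz0, one_pow]]
      simp
    · simp only [← mul_pow]
      have hne : a * z⁻¹ - 1 ≠ 0 := sub_ne_zero.2 fun hh => haz (by
        rw [← div_eq_mul_inv] at hh
        exact (div_eq_one_iff_eq hz0).1 hh)
      refine (mul_eq_zero.1 ?_).resolve_right hne
      rw [geom_sum_mul, mul_pow, ha, inv_pow, hz, inv_one, mul_one, sub_self]
  have hsum : ∑ j ∈ Finset.range e, (l ^ j + n ^ j) * (z⁻¹) ^ j =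
      ∑ j ∈ Finset.range e, (z ^ j + s ^ j) * (z⁻¹) ^ j :=
    Finset.sum_congr rfl fun j hj => by rw [h j (Finset.mem_range.1 hj)]
  simp only [add_mul, Finset.sum_add_distrib] at hsum
  rw [hS l hl, hS n hn, hS z hz, hS s hs, if_pos rfl, if_neg hsz, add_zero] at hsum
  have h1 := h 1 (by omega)
  simp only [pow_one] at h1
  by_cases hlz : l = z
  · refine Or.inl ⟨hlz, ?_⟩
    rw [hlz] at h1
    exact add_left_cancel h1
  · rw [if_neg hlz, zero_add] at hsum
    by_cases hnz : n = z
    · refine Or.inr ⟨hnz, ?_⟩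
      rw [hnz, add_comm] at h1
      exact add_left_cancel h1
    · rw [if_neg hnz] at hsum
      exact absurd hsum.symm he

end Roots

end CfsgLib.PrimeDegreeTI
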