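import Cfsg.Agent.PrimeDegreeTI.Frame

/-!
# The simple modules of dimension `(p + 1) / 2` and `p + 1`
-/

set_option autoImplicit false
set_option linter.style.haveILetI false
set_option linter.unusedSectionVars false

namespace CfsgLib.PrimeDegreeTI

open Module

variable {p : ℕ} [Fact p.Prime] {G : Type*} [Group G] [Finite G] (D : Frame p G)
  {k : Type*} [Field k] [CharP k p] {V : Type*} [AddCommGroup V] [Module k V]
  [FiniteDimensional k V] (ρ : Representation k G V)

theorem Frame.sum_pow_m {h : ℕ} (h1 : 1 ≤ h) (hd : D.e ∣ h - 1) {j : ℕ} (hj : ¬ D.e ∣ j) :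
    ∑ i ∈ Finset.range h, (((D.m : k) ^ j) ^ i) = 1 :=
  sum_pow_eq_one h1 hd (by rw [← pow_mul, mul_comm, pow_mul, D.m_pow_e, one_pow])
    (D.m_pow_ne_one hj)

/-- A simple piece of dimension `(p + 1) / 2`. -/
theorem Frame.piece (hirr : ∀ W : Submodule k V, (∀ g, ∀ v ∈ W, ρ g v ∈ W) → W = ⊥ ∨ W = ⊤)
    {ζ : k} (hζ : IsPrimitiveRoot ζ D.e) (hdet : ∀ g, LinearMap.det (ρ g) = 1)
    (hdim : 2 * Module.finrank k V = p + 1) :
    ∃ l : k, l ^ 2 = 1 ∧ l ^ D.e = 1 ∧ ∀ j, ¬ D.e ∣ j →
      LinearMap.trace k V (ρ (D.x ^ j)) = l ^ j := by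
  classical
  have h7 := D.seven_le
  set T : Module.End k V := ρ D.u - 1 with hT
  set n := Module.finrank k V - 1 with hn
  have hVn : Module.finrank k V = n + 1 := by omega
  have hnil : T ^ (p - 1) = 0 := by
    have h2 := (LinearMap.isNilpotent_iff_charpoly (φ := T)).1 ⟨_, D.unipotent_pow_p ρ⟩
    have h3 := LinearMap.aeval_self_charpoly T
    rw [h2, map_pow, Polynomial.aeval_X] at h3
    exact pow_eq_zero_of_le (by omega) h3
  obtain ⟨y, l, hl, hy, hy1, hy2⟩ := (D.exists_chain ρ hirr hζ hnil).2 n hVn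
  haveI : Nonempty (Fin (n + 1)) := ⟨0⟩
  let b : Basis (Fin (n + 1)) k V := basisOfLinearIndependentOfCardEqFinrank
    (linearIndependent_chain T y n hy1 hy2) (by rw [Fintype.card_fin, hVn])
  have hb : ∀ i : Fin (n + 1), b i = (T ^ (i : ℕ)) y := fun i => by simp [b]
  have key : ∀ j : ℕ, LinearMap.trace k V (ρ (D.x ^ j)) =
      ∑ i : Fin (n + 1), l ^ j * ((D.m : k) ^ j) ^ (i : ℕ) ∧
      LinearMap.det (ρ (D.x ^ j)) = ∏ i : Fin (n + 1), l ^ j * ((D.m : k) ^ j) ^ (i : ℕ) := by
    intro j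
    refine trace_det_of_triangular b _ _ fun i => ?_
    rw [hb]
    refine D.chain_mem ρ hy j i _ fun q hq => ?_
    by_cases hqn : q < n + 1
    · exact Submodule.subset_span ⟨⟨q, hqn⟩, hq, hb _⟩
    · rw [← Nat.sub_add_cancel (not_lt.1 hqn), pow_add, Module.End.mul_apply, ← hT, hy2, map_zero]
      exact zero_mem _
  have hhalf : D.e ∣ n := (show n = (p - 1) / 2 by omega) ▸ D.dvd_half
  refine ⟨l, ?_, hl, fun j hj => ?_⟩
  · have h1 := (key 1).2
    rw [pow_one, hdet, Fin.prod_univ_eq_prod_range (fun i => l ^ 1 * ((D.m : k) ^ 1) ^ i) (n + 1),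
      Finset.prod_mul_distrib, Finset.prod_const, Finset.card_range, pow_one, pow_one,
      Finset.prod_pow_eq_pow_sum] at h1
    have h2 := congrArg (· ^ 2) h1.symm
    simp only [one_pow, mul_pow, ← pow_mul, Finset.sum_range_id_mul_two,
      Nat.add_sub_cancel] at h2
    obtain ⟨c, hc⟩ := hhalf
    rw [show (n + 1) * n = D.e * (c * (n + 1)) by rw [hc]; ring, pow_mul (D.m : k), D.m_pow_e,
      one_pow, mul_one, show (n + 1) * 2 = D.e * (2 * c) + 2 by rw [hc]; ring, pow_add, pow_mul, hl, one_pow,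
      one_mul] at h2
    exact h2
  · rw [(key j).1, ← Finset.mul_sum,
      Fin.sum_univ_eq_sum_range (fun i => ((D.m : k) ^ j) ^ i) (n + 1),
      D.sum_pow_m (by omega) (by simpa using hhalf) hj, mul_one]

/-- A simple module of dimension `p + 1`: a chain of length `p` and a line. -/
theorem Frame.exists_chain_line
    (hirr : ∀ W : Submodule k V, (∀ g, ∀ v ∈ W, ρ g v ∈ W) → W = ⊥ ∨ W = ⊤)
    {ζ : k} (hζ : IsPrimitiveRoot ζ D.e) (hdet : ∀ g, LinearMap.det (ρ g) = 1)
    (hdim : Module.finrank k V = p + 1) :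
    ∃ (b : Basis (Fin (p + 1)) k V) (y w : V) (l ν : k),
      (∀ i : Fin p, b i.castSucc = ((ρ D.u - 1) ^ (i : ℕ)) y) ∧ b (Fin.last p) = w ∧
      ρ D.u w = w ∧ ρ D.x w = ν • w ∧ l ^ D.e = 1 ∧ ν ^ D.e = 1 ∧ l * ν = 1 ∧
      ∀ j, ¬ D.e ∣ j → LinearMap.trace k V (ρ (D.x ^ j)) = l ^ j + ν ^ j := by
  classical
  have hp : p.Prime := Fact.out
  have h7 := D.seven_le
  set T : Module.End k V := ρ D.u - 1 with hT
  have hTp : T ^ p = 0 := D.unipotent_pow_p ρ
  obtain ⟨n, hn⟩ : ∃ n, p = n + 1 + 1 := ⟨p - 2, by omega⟩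
  have hnz : T ^ (n + 1) ≠ 0 := fun h => by
    have h1 := (D.exists_chain ρ hirr hζ (show T ^ (p - 1) = 0 by rwa [hn, Nat.add_sub_cancel])).1
    omega
  obtain ⟨y, l, -, hy0, hl, hy⟩ := exists_eigenvector (ρ D.x) (D.e_ne_zero (k := k)) hζ
    (D.rho_x_pow_e ρ) ⊤ (LinearMap.ker (T ^ (n + 1))) (fun v _ => trivial)
    (fun h => hnz (LinearMap.ker_eq_top.1 (top_le_iff.1 h)))
  rw [LinearMap.mem_ker] at hy0
  have hzero : ∀ q, p ≤ q → (T ^ q) y = 0 := fun q hq => by
    rw [← Nat.sub_add_cancel hq, pow_add, hTp, mul_zero, LinearMap.zero_apply]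
  have hTy : ((T ^ n) (T y)) ≠ 0 := by rwa [← Module.End.mul_apply, ← pow_succ]
  have hTy' : ((T ^ (n + 1)) (T y)) = 0 := by
    rw [← Module.End.mul_apply, ← pow_succ]
    exact hzero _ hn.le
  obtain ⟨w, ν, hwT, hwF, hν, hw⟩ := exists_eigenvector (ρ D.x) (D.e_ne_zero (k := k)) hζ
    (D.rho_x_pow_e ρ) (LinearMap.ker T) (Submodule.span k {(T ^ (n + 1)) y})
    (fun z hz => D.mem_ker_stable ρ hz) (fun h => by
      have h1 := Submodule.finrank_mono h
      rw [finrank_span_singleton hy0] at h1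
      have h2 := finrank_ker_pow_le T p
      rw [hTp, LinearMap.ker_zero, finrank_top, hdim] at h2
      have h3 : p * Module.finrank k (LinearMap.ker T) ≤ p * 1 := Nat.mul_le_mul_left p h1
      omega)
  have hTw : T w = 0 := LinearMap.mem_ker.1 hwT
  let f : Fin p → V := fun i => (T ^ (i : ℕ)) y
  have hf : LinearIndependent k f := by
    subst hn
    exact linearIndependent_chain T y (n + 1) hy0 (hzero _ le_rfl)
  have hwf : w ∉ Submodule.span k (Set.range f) := by
    subst hn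
    intro h
    obtain ⟨a, ha⟩ := (Submodule.mem_span_range_iff_exists_fun k).1 h
    have h1 : ∑ i : Fin (n + 1), a i.castSucc • (T ^ (i : ℕ)) (T y) = 0 := by
      have h2 := congrArg T ha
      rw [hTw, map_sum, Fin.sum_univ_castSucc] at h2
      simp only [f, map_smul, ← Module.End.mul_apply, ← pow_succ', Fin.val_last,
        Fin.val_castSucc] at h2
      rw [hzero (n + 1 + 1) le_rfl, smul_zero, add_zero] at h2
      simpa [← Module.End.mul_apply, ← pow_succ] using h2
    have h3 := Fintype.linearIndependent_iff.1 (linearIndependent_chain T (T y) n hTy hTy') _ h1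
    apply hwF
    rw [← ha, Fin.sum_univ_castSucc, Finset.sum_eq_zero fun i _ => by rw [h3 i, zero_smul], zero_add]
    exact Submodule.smul_mem _ _ (Submodule.mem_span_singleton_self _)
  let b : Basis (Fin (p + 1)) k V := basisOfLinearIndependentOfCardEqFinrank
    (linearIndependent_finSnoc.2 ⟨hf, hwf⟩) (by rw [Fintype.card_fin, hdim])
  have hb1 : ∀ i : Fin p, b i.castSucc = (T ^ (i : ℕ)) y := fun i => by simp [b, f]
  have hb2 : b (Fin.last p) = w := by simp [b]
  have hwu : ρ D.u w = w := by simpa [hT, sub_eq_zero] using hTw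
  have key : ∀ j : ℕ, LinearMap.trace k V (ρ (D.x ^ j)) =
      ∑ i : Fin (p + 1), (Fin.snoc (fun i : Fin p => l ^ j * ((D.m : k) ^ j) ^ (i : ℕ)) (ν ^ j) :
        Fin (p + 1) → k) i ∧
      LinearMap.det (ρ (D.x ^ j)) =
      ∏ i : Fin (p + 1), (Fin.snoc (fun i : Fin p => l ^ j * ((D.m : k) ^ j) ^ (i : ℕ)) (ν ^ j) :
        Fin (p + 1) → k) i := by
    intro j
    refine trace_det_of_triangular b _ _ fun i => ?_
    induction i using Fin.lastCases with
    | last =>
      rw [hb2, Fin.snoc_last, D.map_eigen ρ hw j, sub_self]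
      exact zero_mem _
    | cast i =>
      rw [hb1, Fin.snoc_castSucc]
      refine D.chain_mem ρ hy j i _ fun q hq => ?_
      by_cases hqn : q < p
      · exact Submodule.subset_span ⟨(⟨q, hqn⟩ : Fin p).castSucc, hq, hb1 _⟩
      · rw [← hT, hzero _ (not_lt.1 hqn)]
        exact zero_mem _
  refine ⟨b, y, w, l, ν, hb1, hb2, hwu, hw, hl, hν, ?_, fun j hj => ?_⟩
  · have h1 := (key 1).2
    rw [pow_one, hdet, Fin.prod_univ_castSucc, Fin.snoc_last] at h1
    simp only [Fin.snoc_castSucc, pow_one] at h1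
    rw [Fin.prod_univ_eq_prod_range (fun i => l * (D.m : k) ^ i) p, Finset.prod_mul_distrib,
      Finset.prod_const, Finset.card_range, Finset.prod_pow_eq_pow_sum] at h1
    have hodd : Odd p := hp.odd_of_ne_two (by omega)
    have hs : ∑ i ∈ Finset.range p, i = p * ((p - 1) / 2) := by
      rw [Finset.sum_range_id, Nat.mul_div_assoc]
      obtain ⟨q, hq⟩ := hodd
      omega
    obtain ⟨c, hc⟩ := D.dvd_half
    obtain ⟨c', hc'⟩ := D.dvd_pred
    rw [hs, hc, show p * (D.e * c) = D.e * (c * p) by ring, pow_mul, D.m_pow_e, one_pow, mul_one,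
      show p = D.e * c' + 1 by omega, pow_add, pow_mul, hl, one_pow, one_mul, pow_one] at h1
    exact h1.symm
  · rw [(key j).1, Fin.sum_univ_castSucc, Fin.snoc_last]
    simp only [Fin.snoc_castSucc]
    rw [← Finset.mul_sum, Fin.sum_univ_eq_sum_range (fun i => ((D.m : k) ^ j) ^ i) p,
      D.sum_pow_m (by omega) D.dvd_pred hj, mul_one]

/-- An invariant nondegenerate form makes the eigenvalue on the line a sign. -/
theorem Frame.sq_eq_one_of_form (b : Basis (Fin (p + 1)) k V) (y w : V) (ν : k)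
    (hb1 : ∀ i : Fin p, b i.castSucc = ((ρ D.u - 1) ^ (i : ℕ)) y) (hb2 : b (Fin.last p) = w)
    (hwu : ρ D.u w = w) (hw : ρ D.x w = ν • w) (β : V →ₗ[k] V →ₗ[k] k)
    (hβ : ∀ g v z, β (ρ g v) (ρ g z) = β v z) (hnd : ∀ v, (∀ z, β v z = 0) → v = 0) :
    ν ^ 2 = 1 := by
  classical
  have hp : p.Prime := Fact.out
  have h7 := D.seven_le
  set T : Module.End k V := ρ D.u - 1 with hT
  have hTp : T ^ p = 0 := D.unipotent_pow_p ρ
  have hright : ∀ a, ρ D.u a = a → ∀ z, β a (T z) = 0 := fun a ha z => by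
    rw [hT, LinearMap.sub_apply, Module.End.one_apply, map_sub, sub_eq_zero]
    conv_lhs => rw [← ha]
    exact hβ D.u a z
  have hleft : ∀ a, ρ D.u a = a → ∀ z, β (T z) a = 0 := fun a ha z => by
    rw [hT, LinearMap.sub_apply, Module.End.one_apply, map_sub, LinearMap.sub_apply, sub_eq_zero]
    conv_lhs => rw [← ha]
    exact hβ D.u z a
  set s := (T ^ (p - 1)) y with hs
  have hsu : ρ D.u s = s := by
    have : T s = 0 := by
      rw [hs, ← Module.End.mul_apply, ← pow_succ', Nat.sub_add_cancel hp.one_le, hTp,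
        LinearMap.zero_apply]
    simpa [hT, sub_eq_zero] using this
  by_contra hν
  have hww : β w w = 0 := by
    have h := hβ D.x w w
    simp only [hw, map_smul, LinearMap.smul_apply, smul_eq_mul] at h
    have : (ν ^ 2 - 1) * β w w = 0 := by rw [sub_mul, one_mul, sub_eq_zero, sq, mul_assoc, h]
    exact (mul_eq_zero.1 this).resolve_left (sub_ne_zero.2 hν)
  have hsw : β s w = 0 := by
    rw [hs, show p - 1 = (p - 2) + 1 by omega, pow_succ', Module.End.mul_apply]
    exact hleft w hwu _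
  have hzero : ∀ a, ρ D.u a = a → β a y = 0 → β a w = 0 → a = 0 := by
    intro a ha h1 h2
    refine hnd a fun z => ?_
    have : β a = 0 := b.ext fun i => by
      induction i using Fin.lastCases with
      | last => rw [hb2, h2, LinearMap.zero_apply]
      | cast i =>
        rw [hb1, LinearMap.zero_apply]
        obtain ⟨q, hq⟩ := i
        rcases q with _ | q
        · simpa using h1
        · show β a ((T ^ (q + 1)) y) = 0
          rw [pow_succ', Module.End.mul_apply]
          exact hright a ha _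
    rw [this, LinearMap.zero_apply]
  have hb0 : ∀ i : Fin p, (i : ℕ) = p - 1 → b i.castSucc = s := fun i hi => by rw [hb1, hi]
  let i₀ : Fin p := ⟨p - 1, by omega⟩
  have hs0 : s ≠ 0 := hb0 i₀ rfl ▸ b.ne_zero _
  have hcomb : ∀ A B : k, B • s - A • w = 0 → A = 0 ∧ B = 0 := fun A B h => by
    have h1 := congrArg b.repr h
    rw [map_sub, map_smul, map_smul, map_zero, ← hb0 i₀ rfl, ← hb2, b.repr_self, b.repr_self] at h1
    have hne : i₀.castSucc ≠ Fin.last p := i₀.castSucc_ne_last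
    have h2 := DFunLike.congr_fun h1 i₀.castSucc
    have h3 := DFunLike.congr_fun h1 (Fin.last p)
    simp [Finsupp.single_apply, hne, hne.symm] at h2 h3
    exact ⟨h3, h2⟩
  obtain ⟨hA, -⟩ := hcomb (β s y) (β w y) (hzero _ (by simp [map_sub, map_smul, hsu, hwu])
    (by simp [mul_comm]) (by simp [hww, hsw]))
  exact hs0 (hzero s hsu hA hsw)

end CfsgLib.PrimeDegreeTI
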