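import Cfsg.Prelude.Def_Blocks
import Cfsg.Agent.Characters.Induction
import Cfsg.Agent.Characters.Linear
import Cfsg.Agent.Perm.PrimeDegree
import Cfsg.Agent.PrimeDegreeTI.Frame

/-!
# A group of prime degree with one character of degree `p` and a TI complement in the Sylow normalizer

Generators of the normalizer, perfectness, simplicity, parity.
-/

set_option autoImplicit false
set_option linter.style.haveILetI false
set_option linter.unusedSectionVars false

namespace CfsgLib.PrimeDegreeTI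

open CfsgLib.Characters MulAction

variable {α : Type*} [Fintype α] [DecidableEq α] {p : ℕ} [Fact p.Prime]

/-- The group theoretic data used in the proof. -/
structure Data (G : Subgroup (Equiv.Perm α)) (P : Sylow p G) (E : Subgroup G) where
  /-- coordinates -/
  coord : ZMod p ≃ α
  /-- the generator of `P` -/
  u : G
  /-- the generator of `E` -/
  x : G
  /-- the exponent of the conjugation -/
  m : ℕ
  u_apply : ∀ j, (u : Equiv.Perm α) (coord j) = coord (j + 1)
  orderOf_u : orderOf u = p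
  zpowers_u : Subgroup.zpowers u = (P : Subgroup G)
  zpowers_x : Subgroup.zpowers x = E
  conj_eq : x * u * x⁻¹ = u ^ m
  orderOf_m : orderOf (m : ZMod p) = orderOf x

variable {G : Subgroup (Equiv.Perm α)}

theorem pow_eq_pow_iff_cast {u : G} (hu : orderOf u = p) (a b : ℕ) :
    u ^ a = u ^ b ↔ (a : ZMod p) = (b : ZMod p) := by
  rw [pow_eq_pow_iff_modEq, hu, ZMod.natCast_eq_natCast_iff]

theorem dvd_card (hα : Fintype.card α = p) [IsPretransitive G α] : p ∣ Nat.card G := by
  haveI : Nonempty α := Fintype.card_pos_iff.1 (hα ▸ (Fact.out : p.Prime).pos)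
  rw [← hα, ← Nat.card_eq_fintype_card,
    ← index_stabilizer_of_transitive G (Classical.arbitrary α)]
  exact Subgroup.index_dvd_card _

theorem not_sq_dvd (hα : Fintype.card α = p) : ¬ p ^ 2 ∣ Nat.card G := by
  intro h
  have hp : p.Prime := Fact.out
  have h1 := h.trans (Subgroup.card_subgroup_dvd_card G)
  rw [Nat.card_perm, Nat.card_eq_fintype_card, hα, ← Nat.mul_factorial_pred hp.ne_zero, sq] at h1
  have h2 := (Nat.mul_dvd_mul_iff_left hp.pos).1 h1
  rw [hp.dvd_factorial] at h2
  have := hp.pos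
  omega

theorem card_sylow (hα : Fintype.card α = p) [IsPretransitive G α] (P : Sylow p G) :
    Nat.card (P : Subgroup G) = p := by
  have hp : p.Prime := Fact.out
  obtain ⟨n, hn⟩ := P.2.exists_card_eq
  rcases Nat.lt_or_ge n 2 with h | h
  · rcases Nat.eq_zero_or_pos n with rfl | h0
    · have h1 := P.dvd_card_of_dvd_card (dvd_card (G := G) hα)
      rw [hn, pow_zero, Nat.dvd_one] at h1
      exact absurd h1 hp.ne_one
    · rw [hn, show n = 1 by omega, pow_one]
  · exact absurd ((pow_dvd_pow p h).trans (hn ▸ Subgroup.card_subgroup_dvd_card _)) (not_sq_dvd hα)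

/-- Generators of the normalizer of a Sylow subgroup. -/
theorem nonempty_data (hα : Fintype.card α = p) [IsPretransitive G α] (P : Sylow p G) (E : Subgroup G)
    (hPE : (P : Subgroup G) ⊔ E = Subgroup.normalizer ((P : Subgroup G) : Set G))
    (hPE' : (P : Subgroup G) ⊓ E = ⊥) : Nonempty (Data G P E) := by
  classical
  have hp : p.Prime := Fact.out
  have hP := card_sylow hα P
  obtain ⟨u, hu⟩ := exists_prime_orderOf_dvd_card' (G := (P : Subgroup G)) p (dvd_of_eq hP.symm)
  have huo : orderOf (u : G) = p := by rw [Subgroup.orderOf_coe, hu]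
  have hzu : Subgroup.zpowers (u : G) = (P : Subgroup G) :=
    Subgroup.eq_of_le_of_card_ge (Subgroup.zpowers_le.2 u.2) (by rw [hP, Nat.card_zpowers, huo])
  have hup : ((u : G) : Equiv.Perm α) ^ p = 1 := by
    have h : (u : G) ^ p = 1 := orderOf_dvd_iff_pow_eq_one.1 huo.dvd
    rw [← SubmonoidClass.coe_pow, h]; rfl
  have hu1 : ((u : G) : Equiv.Perm α) ≠ 1 := fun h => by
    have : (u : G) = 1 := Subtype.ext h
    rw [this, orderOf_one] at huo
    exact hp.one_lt.ne huo
  obtain ⟨co, hco⟩ := CfsgLib.Perm.PrimeDegree.exists_coord hα hu1 hup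
  have hEN : ∀ y ∈ E, y ∈ Subgroup.normalizer ((P : Subgroup G) : Set G) := fun y hy =>
    hPE ▸ Subgroup.mem_sup_right hy
  have hex : ∀ y : E, ∃ n : ℕ, (y : G) * u * (y : G)⁻¹ = (u : G) ^ n := by
    intro y
    have h : (y : G) * u * (y : G)⁻¹ ∈ Subgroup.zpowers (u : G) := by
      rw [hzu]; exact (Subgroup.mem_normalizer_iff.1 (hEN y y.2) u).1 u.2
    obtain ⟨n, hn⟩ := mem_powers_iff_mem_zpowers.2 h
    exact ⟨n, hn.symm⟩
  choose θ hθ using hex
  let f : E →* ZMod p :=
    { toFun := fun y => (θ y : ZMod p)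
      map_one' := by
        rw [← Nat.cast_one, ← pow_eq_pow_iff_cast huo, ← hθ, pow_one]
        simp
      map_mul' := fun a b => by
        show ((θ (a * b) : ℕ) : ZMod p) = (θ a : ZMod p) * (θ b : ZMod p)
        rw [← Nat.cast_mul, ← pow_eq_pow_iff_cast huo, ← hθ, pow_mul, ← hθ a, conj_pow, ← hθ b]
        push_cast
        group }
  have hf : Function.Injective f := by
    intro a b h
    have h1 : (a : G) * u * (a : G)⁻¹ = (b : G) * u * (b : G)⁻¹ := by
      rw [hθ, hθ, pow_eq_pow_iff_cast huo]; exact h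
    have h2 : Commute ((b : G)⁻¹ * a) u := by
      show (b : G)⁻¹ * a * u = u * ((b : G)⁻¹ * a)
      calc (b : G)⁻¹ * a * u = (b : G)⁻¹ * ((a : G) * u * (a : G)⁻¹) * a := by group
        _ = (b : G)⁻¹ * ((b : G) * u * (b : G)⁻¹) * a := by rw [h1]
        _ = u * ((b : G)⁻¹ * a) := by group
    set c : G := (b : G)⁻¹ * a with hc
    obtain ⟨j, hj⟩ := co.surjective ((c : Equiv.Perm α) (co 0))
    have hcu : ∀ i : ℕ, (c : Equiv.Perm α) (co i) = co (i + j) := by
      intro i
      induction i with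
      | zero => rw [Nat.cast_zero, zero_add, hj]
      | succ i ih =>
        rw [Nat.cast_succ, ← hco, show (c : Equiv.Perm α) (((u : G) : Equiv.Perm α) (co i)) =
          ((c * u : G) : Equiv.Perm α) (co i) from rfl, h2.eq]
        show ((u : G) : Equiv.Perm α) ((c : Equiv.Perm α) (co i)) = _
        rw [ih, hco]
        congr 1
        ring
    have hui : ∀ (n : ℕ) (i : ZMod p), (((u : G) ^ n : G) : Equiv.Perm α) (co i) = co (i + n) := by
      intro n
      induction n with
      | zero => simp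
      | succ n ih =>
        intro i
        rw [pow_succ']
        show ((u : G) : Equiv.Perm α) ((((u : G) ^ n : G) : Equiv.Perm α) (co i)) = _
        rw [ih, hco]
        congr 1
        push_cast
        ring
    have hcP : c ∈ (P : Subgroup G) := by
      rw [← hzu, show c = (u : G) ^ j.val from Subtype.ext (Equiv.ext fun z => by
        obtain ⟨i, rfl⟩ := co.surjective z
        rw [← ZMod.natCast_zmod_val i, hcu, hui, ZMod.natCast_zmod_val, ZMod.natCast_zmod_val])]
      exact pow_mem (Subgroup.mem_zpowers _) _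
    have hcE : c ∈ E := mul_mem (inv_mem b.2) a.2
    have hbot : c ∈ (P : Subgroup G) ⊓ E := ⟨hcP, hcE⟩
    rw [hPE', Subgroup.mem_bot, hc, inv_mul_eq_one] at hbot
    exact Subtype.ext hbot.symm
  haveI : IsCyclic E := isCyclic_of_injective_ringHom f hf
  obtain ⟨g, hg⟩ := IsCyclic.exists_generator (α := E)
  refine ⟨⟨co, u, g, θ g, hco, huo, hzu, ?_, hθ g, ?_⟩⟩
  · refine le_antisymm (Subgroup.zpowers_le.2 g.2) fun y hy => ?_
    obtain ⟨i, hi⟩ := Subgroup.mem_zpowers_iff.1 (hg ⟨y, hy⟩)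
    exact Subgroup.mem_zpowers_iff.2 ⟨i, by simpa using congrArg Subtype.val hi⟩
  · rw [Subgroup.orderOf_coe]
    exact orderOf_injective f hf g

section

variable {P : Sylow p G} {E : Subgroup G} (S : Data G P E)

theorem Data.pow_p : S.u ^ p = 1 := by
  have := pow_orderOf_eq_one S.u
  rwa [S.orderOf_u] at this

theorem Data.card_E : Nat.card E = orderOf S.x :=
  (congrArg (fun H : Subgroup G => Nat.card H) S.zpowers_x).symm.trans (Nat.card_zpowers _)

theorem Data.m_ne_zero : (S.m : ZMod p) ≠ 0 := fun h => by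
  have h1 := S.orderOf_m
  rw [h, orderOf_zero] at h1
  exact (orderOf_pos S.x).ne h1

theorem Data.dvd_pred : orderOf S.x ∣ p - 1 :=
  S.orderOf_m ▸ ZMod.orderOf_dvd_card_sub_one S.m_ne_zero

theorem Data.normalizer_eq (hPE : (P : Subgroup G) ⊔ E = Subgroup.normalizer ((P : Subgroup G) : Set G)) :
    Subgroup.normalizer ((P : Subgroup G) : Set G) = Subgroup.closure {S.u, S.x} := by
  have h : Subgroup.closure {S.u, S.x} = Subgroup.zpowers S.u ⊔ Subgroup.zpowers S.x := by
    rw [Subgroup.zpowers_eq_closure, Subgroup.zpowers_eq_closure, ← Subgroup.closure_union,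
      Set.singleton_union]
  rw [h]
  exact hPE.symm.trans (congrArg₂ (fun A B : Subgroup G => A ⊔ B) S.zpowers_u.symm S.zpowers_x.symm)

theorem Data.card_normalizer
    (hPE : (P : Subgroup G) ⊔ E = Subgroup.normalizer ((P : Subgroup G) : Set G))
    (hPE' : (P : Subgroup G) ⊓ E = ⊥) :
    Nat.card (Subgroup.normalizer ((P : Subgroup G) : Set G)) = p * orderOf S.x := by
  have hle : E ≤ Subgroup.normalizer ((P : Subgroup G) : Set G) := hPE ▸ le_sup_right
  have hPc : Nat.card (P : Subgroup G) = p := by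
    rw [← S.zpowers_u, Nat.card_zpowers, S.orderOf_u]
  let Ψ : ↥(P : Subgroup G) × ↥E → ↥(Subgroup.normalizer ((P : Subgroup G) : Set G)) := fun a =>
    ⟨(a.1 : G) * (a.2 : G), mul_mem (Subgroup.le_normalizer a.1.2) (hle a.2.2)⟩
  have hΨ : Function.Bijective Ψ := by
    refine ⟨?_, fun g => ?_⟩
    · rintro ⟨a, b⟩ ⟨c, d⟩ h
      have h1 : (a : G) * b = c * d := congrArg Subtype.val h
      have h2 : (c : G)⁻¹ * a = d * (b : G)⁻¹ := by
        rw [inv_mul_eq_iff_eq_mul, ← mul_assoc, ← h1, mul_inv_cancel_right]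
      have h3 : (c : G)⁻¹ * a ∈ (P : Subgroup G) ⊓ E :=
        ⟨(P : Subgroup G).mul_mem ((P : Subgroup G).inv_mem c.2) a.2, h2 ▸ E.mul_mem d.2 (E.inv_mem b.2)⟩
      rw [hPE', Subgroup.mem_bot, inv_mul_eq_one] at h3
      obtain rfl : c = a := Subtype.ext h3
      obtain rfl : b = d := Subtype.ext (mul_left_cancel h1)
      rfl
    · have hg : (g : G) ∈ (((P : Subgroup G) ⊔ E : Subgroup G) : Set G) := hPE.symm ▸ g.2
      rw [Subgroup.coe_mul_of_right_le_normalizer_left _ _ hle] at hg
      obtain ⟨a, ha, b, hb, hab⟩ := hg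
      exact ⟨(⟨a, ha⟩, ⟨b, hb⟩), Subtype.ext hab⟩
  rw [← Nat.card_congr (Equiv.ofBijective Ψ hΨ), Nat.card_prod, hPc, S.card_E]

theorem centralizer_le {E : Subgroup G} (hTI : ∀ g : G, g ∉ Subgroup.normalizer (E : Set G) →
    E ⊓ E.map (MulAut.conj g).toMonoidHom = ⊥) {y g : G} (hy : y ∈ E) (hy1 : y ≠ 1)
    (hg : Commute g y) : g ∈ Subgroup.normalizer (E : Set G) := by
  by_contra h
  have h1 : y ∈ E ⊓ E.map (MulAut.conj g).toMonoidHom :=
    ⟨hy, ⟨y, hy, by
      show g * y * g⁻¹ = y
      rw [hg.eq, mul_inv_cancel_right]⟩⟩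
  rw [hTI g h, Subgroup.mem_bot] at h1
  exact hy1 h1

theorem mem_of_pow_eq_one (P : Sylow p G) {z : G} (hz : z ^ p = 1)
    (hzN : z ∈ Subgroup.normalizer ((P : Subgroup G) : Set G)) : z ∈ (P : Subgroup G) := by
  have hpg : IsPGroup p (Subgroup.zpowers z) := by
    obtain ⟨i, -, hi⟩ := (Nat.dvd_prime_pow (Fact.out : p.Prime)).1
      (orderOf_dvd_of_pow_eq_one (show z ^ p ^ 1 = 1 by rwa [pow_one]))
    exact IsPGroup.iff_card.2 ⟨i, by rw [Nat.card_zpowers, hi]⟩
  have hsup := hpg.to_sup_of_normal_right' P.2 (Subgroup.zpowers_le.2 hzN)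
  exact (P.3 hsup le_sup_right).le (Subgroup.mem_sup_left (Subgroup.mem_zpowers z))

theorem Data.semiregular (hPE : (P : Subgroup G) ⊔ E = Subgroup.normalizer ((P : Subgroup G) : Set G)) :
    ∀ z ∈ Subgroup.zpowers S.u, ∀ g : G, g⁻¹ * z * g ∈ Subgroup.closure {S.u, S.x} →
      g ∉ Subgroup.closure {S.u, S.x} → z = 1 := by
  have hp : p.Prime := Fact.out
  intro z hz g hg hgN
  by_contra hz1
  rw [← S.normalizer_eq hPE] at hg hgN
  have hzp : z ^ p = 1 := by
    obtain ⟨i, rfl⟩ := Subgroup.mem_zpowers_iff.1 hz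
    rw [← zpow_natCast, ← zpow_mul, mul_comm, zpow_mul, zpow_natCast, S.pow_p, one_zpow]
  have hw := mem_of_pow_eq_one P (z := g⁻¹ * z * g) (by
    have := conj_pow (i := p) (a := g⁻¹) (b := z)
    rw [inv_inv] at this
    rw [this, hzp, mul_one, inv_mul_cancel]) hg
  have hgen : Subgroup.zpowers z = (P : Subgroup G) := by
    rw [← S.zpowers_u]
    refine Subgroup.eq_of_le_of_card_ge (Subgroup.zpowers_le.2 hz) ?_
    rw [Nat.card_zpowers, Nat.card_zpowers, S.orderOf_u,
      orderOf_eq_prime hzp hz1]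
  apply hgN
  rw [← inv_inv g]
  refine inv_mem (Subgroup.mem_normalizer_iff.2 fun a => ?_)
  have hmap : (P : Subgroup G).map (MulAut.conj g⁻¹).toMonoidHom = (P : Subgroup G) := by
    conv_lhs => rw [← hgen]
    rw [MonoidHom.map_zpowers]
    refine Subgroup.eq_of_le_of_card_ge (Subgroup.zpowers_le.2 (by simpa using hw)) ?_
    rw [← S.zpowers_u, Nat.card_zpowers, Nat.card_zpowers, S.orderOf_u, MulEquiv.coe_toMonoidHom,
      MulEquiv.orderOf_eq, orderOf_eq_prime hzp hz1]
  constructor
  · intro ha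
    have := Subgroup.mem_map_of_mem (MulAut.conj g⁻¹).toMonoidHom ha
    rw [hmap] at this
    exact this
  · intro ha
    have h2 : g⁻¹ * a * (g⁻¹)⁻¹ ∈ (P : Subgroup G).map (MulAut.conj g⁻¹).toMonoidHom :=
      hmap.symm ▸ ha
    obtain ⟨b, hb, hbe⟩ := Subgroup.mem_map.1 h2
    have hb' : g⁻¹ * b * (g⁻¹)⁻¹ = g⁻¹ * a * (g⁻¹)⁻¹ := hbe
    rwa [← mul_left_cancel (mul_right_cancel hb')]

end

/-- The unique character of degree `p` makes the Sylow subgroup abnormal and the group large. -/
theorem sq_le_card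
    (huniq : ∃! χ : Cfsg.IrrCharacter G, Cfsg.charDegree (χ : G → ℂ) = p) :
    p ^ 2 ≤ Nat.card G := by
  classical
  haveI := Fintype.ofFinite G
  obtain ⟨χ, hχ, -⟩ := huniq
  obtain ⟨n, -, hn⟩ := exists_degree_pos χ.2
  have hnp : n = p := by
    rw [Cfsg.charDegree, hn, Complex.natCast_re, Nat.floor_natCast] at hχ
    exact hχ
  have h := sum_degree_sq (G := G)
  have hnat : ∀ ψ : Cfsg.IrrCharacter G, ∃ d : ℕ, (ψ : G → ℂ) 1 = d := fun ψ =>
    exists_degree (isCharacter_of_isIrr ψ.2)
  choose d hd using hnat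
  simp only [hd] at h
  have h' : ∑ ψ : Cfsg.IrrCharacter G, d ψ ^ 2 = Nat.card G := by exact_mod_cast h
  have hdχ : d χ = p := by
    have := (hd χ).symm.trans hn
    rw [← hnp]; exact_mod_cast this
  rw [← h', ← hdχ]
  exact Finset.single_le_sum (f := fun ψ => d ψ ^ 2) (fun _ _ => Nat.zero_le _) (Finset.mem_univ χ)

/-- The orbit of a nontrivial normal subgroup is everything. -/
theorem dvd_card_normal (hα : Fintype.card α = p) [IsPretransitive G α] (N : Subgroup G) [N.Normal]
    (hN : N ≠ ⊥) : p ∣ Nat.card N := by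
  classical
  obtain ⟨⟨n, hn⟩, hn1'⟩ := (Subgroup.ne_bot_iff_exists_ne_one (H := N)).1 hN
  have hn1 : n ≠ 1 := fun h => hn1' (Subtype.ext h)
  haveI : IsPretransitive N α := by
    haveI : IsPreprimitive G α := IsPreprimitive.of_prime_card (by
      rw [Nat.card_eq_fintype_card, hα]; exact Fact.out)
    refine IsPreprimitive.isQuasiPreprimitive.isPretransitive_of_normal fun htriv => hn1 ?_
    refine Subtype.ext (Equiv.ext fun a => ?_)
    have ha : a ∈ fixedPoints N α := htriv ▸ Set.mem_univ a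
    exact ha ⟨n, hn⟩
  haveI : Nonempty α := Fintype.card_pos_iff.1 (hα ▸ (Fact.out : p.Prime).pos)
  rw [← hα, ← Nat.card_eq_fintype_card,
    ← index_stabilizer_of_transitive N (Classical.arbitrary α)]
  exact Subgroup.index_dvd_card _

/-- A normal subgroup of order divisible by `p` contains the Sylow subgroups. -/
theorem sylow_le_normal (hα : Fintype.card α = p) [IsPretransitive G α] (P : Sylow p G)
    (N : Subgroup G) [N.Normal] (hN : p ∣ Nat.card N) : (P : Subgroup G) ≤ N := by
  obtain ⟨z, hz⟩ := exists_prime_orderOf_dvd_card' (G := N) p hN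
  have hzo : orderOf (z : G) = p := by rw [Subgroup.orderOf_coe, hz]
  obtain ⟨Q, hQ⟩ := (IsPGroup.iff_card.2 ⟨1, by rw [Nat.card_zpowers, hzo, pow_one]⟩ :
    IsPGroup p (Subgroup.zpowers (z : G))).exists_le_sylow
  have hQe : (Q : Subgroup G) ≤ N := by
    rw [← Subgroup.eq_of_le_of_card_ge hQ (by rw [card_sylow hα Q, Nat.card_zpowers, hzo])]
    exact Subgroup.zpowers_le.2 z.2
  obtain ⟨g, rfl⟩ := MulAction.exists_smul_eq G Q P
  intro a ha
  rw [Sylow.coe_subgroup_smul, Subgroup.mem_pointwise_smul_iff_inv_smul_mem] at ha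
  have := (inferInstance : N.Normal).conj_mem _ (hQe ha) g
  simpa [mul_assoc] using this

end CfsgLib.PrimeDegreeTI
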