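import Cfsg.Agent.Characters.FixedPoints
import Cfsg.Agent.Characters.Classes
import Cfsg.Agent.PrimeDegreeTI.Setup

/-!
# The group is perfect and simple, all its elements are even
-/

set_option autoImplicit false
set_option linter.style.haveILetI false
set_option linter.unusedSectionVars false

namespace CfsgLib.PrimeDegreeTI

open CfsgLib.Characters MulAction
open scoped commutatorElement

variable {α : Type*} [Fintype α] [DecidableEq α] {p : ℕ} [Fact p.Prime]
  {G : Subgroup (Equiv.Perm α)}

theorem charDegree_eq_iff {H : Type*} [Group H] {χ : H → ℂ} (hχ : Cfsg.IsCharacter H χ) (n : ℕ) :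
    Cfsg.charDegree χ = n ↔ χ 1 = n := by
  obtain ⟨d, hd⟩ := exists_degree hχ
  rw [Cfsg.charDegree, hd, Complex.natCast_re, Nat.floor_natCast, Nat.cast_inj]

/-- The group is perfect. -/
theorem commutator_eq_top (hα : Fintype.card α = p) [IsPretransitive G α] (P : Sylow p G)
    (huniq : ∃! χ : Cfsg.IrrCharacter G, Cfsg.charDegree (χ : G → ℂ) = p)
    (hnn : ¬ (P : Subgroup G).Normal) : commutator G = ⊤ := by
  classical
  have hp : p.Prime := Fact.out
  haveI := Fintype.ofFinite G
  obtain ⟨χ, hχdeg, hχuniq⟩ := huniq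
  have hχ1 : (χ : G → ℂ) 1 = p := (charDegree_eq_iff (isCharacter_of_isIrr χ.2) p).1 hχdeg
  set D := commutator G with hD
  have hDbot : D ≠ ⊥ := by
    intro h
    refine hnn ⟨fun a ha g => ?_⟩
    have h1 : ⁅g, a⁆ ∈ D := Subgroup.commutator_mem_commutator (Subgroup.mem_top g) (Subgroup.mem_top a)
    rw [h, Subgroup.mem_bot, commutatorElement_def, mul_inv_eq_one] at h1
    rwa [h1]
  have hPD : (P : Subgroup G) ≤ D := sylow_le_normal hα P D (dvd_card_normal hα D hDbot)
  have hzero : ∀ g : G, g ∉ D → (χ : G → ℂ) g = 0 := by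
    intro g hg
    haveI : HasEnoughRootsOfUnity ℂ (Monoid.exponent (Abelianization G)) :=
      inferInstance
    have hg1 : Abelianization.of g ≠ 1 := fun h => hg ((QuotientGroup.eq_one_iff g).1 h)
    obtain ⟨φ, hφ⟩ := CommGroup.exists_apply_ne_one_of_hasEnoughRootsOfUnity (Abelianization G) ℂ hg1
    let lam : G →* ℂˣ := φ.comp Abelianization.of
    have hirr : Cfsg.IsIrrCharacter G (fun a => (lam a : ℂ) * (χ : G → ℂ) a) := by
      refine isIrr_of_classInner_self
        (isCharacter_mul (isCharacter_of_isIrr (isIrr_linChar lam)) (isCharacter_of_isIrr χ.2)) ?_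
      have h1 := classInner_isIrr_self χ.2
      rw [Cfsg.classInner] at h1 ⊢
      rw [← h1]
      congr 1
      refine Finset.sum_congr rfl fun a _ => ?_
      have hn : ‖(lam a : ℂ)‖ = 1 := Complex.norm_eq_one_of_pow_eq_one
        (n := orderOf a) (by rw [← Units.val_pow_eq_pow_val, ← map_pow, pow_orderOf_eq_one, map_one,
          Units.val_one]) (orderOf_pos a).ne'
      rw [map_mul, mul_mul_mul_comm, Complex.mul_conj', hn]
      simp
    have heq := hχuniq ⟨_, hirr⟩ ((charDegree_eq_iff (isCharacter_of_isIrr hirr) p).2 (by simp [hχ1]))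
    have h2 : (lam g : ℂ) * (χ : G → ℂ) g = (χ : G → ℂ) g := congrFun (congrArg Subtype.val heq) g
    have h3 : ((lam g : ℂ) - 1) * (χ : G → ℂ) g = 0 := by rw [sub_mul, one_mul, h2, sub_self]
    refine (mul_eq_zero.1 h3).resolve_left (sub_ne_zero.2 fun h => hφ ?_)
    exact Units.ext h
  haveI := Fintype.ofFinite D
  set χD : D → ℂ := fun d => (χ : G → ℂ) d with hχD
  have hχDc : Cfsg.IsCharacter D χD := isCharacter_restrict D (isCharacter_of_isIrr χ.2)
  have hind : Cfsg.indFun D χD = (D.index : ℂ) • (χ : G → ℂ) := by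
    funext g
    by_cases hg : g ∈ D
    · simp only [Cfsg.indFun, Pi.smul_apply, smul_eq_mul]
      have h1 : ∀ a : G, Cfsg.extendByZero D χD (a⁻¹ * g * a) = (χ : G → ℂ) g := fun a => by
        have hm : a⁻¹ * g * a ∈ D := by
          simpa using (inferInstance : D.Normal).conj_mem g hg a⁻¹
        rw [extendByZero_of_mem D χD hm]
        show (χ : G → ℂ) (a⁻¹ * g * a) = _
        simpa using isClassFunction_of_isIrr χ.2 g a⁻¹
      rw [Finset.sum_congr rfl fun a _ => h1 a, Finset.sum_const, Finset.card_univ,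
        ← Nat.card_eq_fintype_card, nsmul_eq_mul, ← Subgroup.index_mul_card D, Nat.cast_mul]
      field_simp [subgroup_card_ne_zero D]
    · rw [indFun_eq_zero_of_forall D χD g fun a ha => hg (by
        simpa [mul_assoc] using (inferInstance : D.Normal).conj_mem _ ha a), Pi.smul_apply,
        hzero g hg, smul_zero]
  have hnorm : Cfsg.classInner χD χD = (D.index : ℂ) := by
    rw [← classInner_indFun D χD (isClassFunction_of_isIrr χ.2), hind, classInner_smul_left,
      classInner_isIrr_self χ.2, mul_one]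
  obtain ⟨c, hc⟩ := exists_nat_coeff hχDc
  have hperp : ∀ η : Cfsg.IrrCharacter G, η ≠ χ →
      Cfsg.classInner χD (fun d : D => (η : G → ℂ) d) = 0 := by
    intro η hη
    rw [← classInner_indFun D χD (isClassFunction_of_isIrr η.2), hind, classInner_smul_left,
      classInner_isIrr_ne χ.2 η.2 (fun h => hη (Subtype.ext h.symm)), mul_zero]
  obtain ⟨θ, hθ⟩ : ∃ θ, c θ ≠ 0 := by
    by_contra h
    push Not at h
    have h1 := congrFun hc 1
    simp only [h, Nat.cast_zero, zero_smul, Finset.sum_const_zero, Pi.zero_apply] at h1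
    simp only [hχD, OneMemClass.coe_one, hχ1] at h1
    exact hp.ne_zero (Nat.cast_eq_zero.1 h1)
  have hθperp : ∀ η : Cfsg.IrrCharacter G, η ≠ χ →
      Cfsg.classInner (θ : D → ℂ) (fun d : D => (η : G → ℂ) d) = 0 := by
    intro η hη
    have hterm : ∀ ψ : Cfsg.IrrCharacter D, ∃ k : ℕ,
        Cfsg.classInner (ψ : D → ℂ) (fun d : D => (η : G → ℂ) d) = k := fun ψ =>
      classInner_characters (isCharacter_of_isIrr ψ.2) (isCharacter_restrict D (isCharacter_of_isIrr η.2))
    choose k hk using hterm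
    have h1 := hperp η hη
    rw [hc, classInner_sum_left] at h1
    simp only [classInner_smul_left, hk] at h1
    have h2 : ∑ ψ, c ψ * k ψ = 0 := by exact_mod_cast h1
    have h3 := Finset.sum_eq_zero_iff.1 h2 θ (Finset.mem_univ θ)
    rw [hk, (mul_eq_zero.1 h3).resolve_left hθ, Nat.cast_zero]
  obtain ⟨a, ha⟩ : ∃ a : ℕ, Cfsg.classInner (θ : D → ℂ) χD = a :=
    classInner_characters (isCharacter_of_isIrr θ.2) hχDc
  have hindθ : Cfsg.indFun D (θ : D → ℂ) = (a : ℂ) • (χ : G → ℂ) := by
    conv_lhs => rw [character_expansion (isCharacter_indFun D (isCharacter_of_isIrr θ.2))]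
    rw [Finset.sum_eq_single χ]
    · rw [classInner_indFun D _ (isClassFunction_of_isIrr χ.2), ← hχD, ha]
    · intro η _ hη
      rw [classInner_indFun D _ (isClassFunction_of_isIrr η.2), hθperp η hη, zero_smul]
    · simp
  obtain ⟨d, hd0, hd⟩ := exists_degree_pos θ.2
  have heq : D.index * d = a * p := by
    have h1 := congrFun hindθ 1
    rw [indFun_one, hd, Pi.smul_apply, hχ1, smul_eq_mul] at h1
    exact_mod_cast h1
  have hidx : ¬ p ∣ D.index := by
    intro h
    apply not_sq_dvd (G := G) hα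
    rw [sq, ← Subgroup.index_mul_card D]
    exact Nat.mul_dvd_mul h ((card_sylow hα P) ▸ Subgroup.card_dvd_of_le hPD)
  have hpd : p ∣ d := ((hp.dvd_mul.1 (Dvd.intro_left a heq.symm))).resolve_left hidx
  have hterm : ∀ ψ : Cfsg.IrrCharacter D, ∃ k : ℕ, (ψ : D → ℂ) 1 = k := fun ψ =>
    exists_degree (isCharacter_of_isIrr ψ.2)
  choose dg hdg using hterm
  have hsum : ∑ ψ, c ψ * dg ψ = p := by
    have h1 := congrFun hc 1
    simp only [hχD, OneMemClass.coe_one, hχ1, Finset.sum_apply] at h1
    simp only [Pi.smul_apply, hdg, smul_eq_mul] at h1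
    exact_mod_cast h1.symm
  have hdθ : dg θ = d := by exact_mod_cast (hdg θ).symm.trans hd
  have hsingle := Finset.single_le_sum (f := fun ψ => c ψ * dg ψ) (fun _ _ => Nat.zero_le _)
    (Finset.mem_univ θ)
  simp only [hsum, hdθ] at hsingle
  have hdp : d = p := le_antisymm ((Nat.le_mul_of_pos_left d (Nat.pos_of_ne_zero hθ)).trans hsingle)
    (Nat.le_of_dvd hd0 hpd)
  have hcθ : c θ = 1 := by
    subst hdp
    have := Nat.le_of_mul_le_mul_right (hsingle.trans (one_mul d).ge) hd0
    omega
  have hrest : ∀ ψ, ψ ≠ θ → c ψ = 0 := by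
    intro ψ hψ
    rw [← Finset.add_sum_erase _ _ (Finset.mem_univ θ), hcθ, hdθ, hdp, one_mul, Nat.add_eq_left]
      at hsum
    have h1 := Finset.sum_eq_zero_iff.1 hsum ψ (Finset.mem_erase.2 ⟨hψ, Finset.mem_univ _⟩)
    refine (mul_eq_zero.1 h1).resolve_right fun h0 => ?_
    have := irr_one_ne_zero ψ.2
    rw [hdg, h0, Nat.cast_zero] at this
    exact this rfl
  have hχθ : χD = (θ : D → ℂ) := by
    rw [hc, Finset.sum_eq_single θ (fun ψ _ hψ => by rw [hrest ψ hψ, Nat.cast_zero, zero_smul])
      (by simp), hcθ, Nat.cast_one, one_smul]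
  rw [hχθ, classInner_isIrr_self θ.2] at hnorm
  exact Subgroup.index_eq_one.1 (by exact_mod_cast hnorm.symm)

/-- The group is simple. -/
theorem isSimpleGroup (hα : Fintype.card α = p) [IsPretransitive G α] {P : Sylow p G} {E : Subgroup G}
    (S : Data G P E) (hPE : (P : Subgroup G) ⊔ E = Subgroup.normalizer ((P : Subgroup G) : Set G))
    (hperf : commutator G = ⊤) : IsSimpleGroup G := by
  classical
  haveI : Nontrivial G := ⟨⟨S.u, 1, fun h => by
    have h1 := S.orderOf_u
    rw [h, orderOf_one] at h1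
    exact (Fact.out : p.Prime).ne_one h1.symm⟩⟩
  refine ⟨fun N hN => or_iff_not_imp_left.2 fun hNb => ?_⟩
  haveI := hN
  have hPN := sylow_le_normal hα P N (dvd_card_normal hα N hNb)
  have h1 : Subgroup.normalizer ((P : Subgroup G) : Set G) ⊔ N = ⊤ :=
    Sylow.normalizer_sup_eq_top' P hPN
  rw [← hPE] at h1
  have h2 : Subgroup.zpowers S.x ⊔ N = ⊤ := by
    refine top_le_iff.1 ?_
    rw [← h1]
    exact sup_le (sup_le (hPN.trans le_sup_right) (S.zpowers_x.ge.trans le_sup_left)) le_sup_right
  have hmap : (Subgroup.zpowers S.x).map (QuotientGroup.mk' N) = ⊤ := by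
    have := congrArg (Subgroup.map (QuotientGroup.mk' N)) h2
    rwa [Subgroup.map_sup, QuotientGroup.map_mk'_self, sup_bot_eq,
      Subgroup.map_top_of_surjective _ (QuotientGroup.mk'_surjective N)] at this
  have hcomm : IsMulCommutative (G ⧸ N) := by
    refine ⟨⟨fun a b => ?_⟩⟩
    have ha : a ∈ (Subgroup.zpowers S.x).map (QuotientGroup.mk' N) := hmap ▸ Subgroup.mem_top a
    have hb : b ∈ (Subgroup.zpowers S.x).map (QuotientGroup.mk' N) := hmap ▸ Subgroup.mem_top b
    rw [MonoidHom.map_zpowers] at ha hb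
    obtain ⟨i, rfl⟩ := Subgroup.mem_zpowers_iff.1 ha
    obtain ⟨j, rfl⟩ := Subgroup.mem_zpowers_iff.1 hb
    exact ((Commute.refl _).zpow_zpow i j).eq
  have := Subgroup.Normal.quotient_commutative_iff_commutator_le.1 hcomm
  rwa [hperf, top_le_iff] at this

theorem sign_eq_one (hperf : commutator G = ⊤) (g : G) :
    Equiv.Perm.sign (g : Equiv.Perm α) = 1 := by
  have h : commutator G ≤ (Equiv.Perm.sign.comp G.subtype).ker :=
    Abelianization.commutator_subset_ker _
  exact h (hperf ▸ Subgroup.mem_top g)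

theorem det_eq_one {k V : Type*} [Field k] [AddCommGroup V] [Module k V] (hperf : commutator G = ⊤)
    (ρ : Representation k G V) (g : G) : LinearMap.det (ρ g) = 1 := by
  let f : G →* kˣ := (LinearMap.det.comp ρ).toHomUnits
  have h : commutator G ≤ f.ker := Abelianization.commutator_subset_ker f
  have h1 : f g = 1 := h (hperf ▸ Subgroup.mem_top g)
  simpa [f] using congrArg Units.val h1

/-- A multiplication that is an even permutation of the integers modulo `p` is a square. -/
theorem pow_half_eq_one_of_sign (hp2 : p ≠ 2) (r : (ZMod p)ˣ)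
    (h : Equiv.Perm.sign (Units.mulLeft r : Equiv.Perm (ZMod p)) = 1) :
    (r : ZMod p) ^ ((p - 1) / 2) = 1 := by
  classical
  have hp : p.Prime := Fact.out
  have hodd := hp.odd_of_ne_two hp2
  obtain ⟨g, hg⟩ := IsCyclic.exists_monoid_generator (α := (ZMod p)ˣ)
  set σ : Equiv.Perm (ZMod p) := Units.mulLeft g
  have hσ : ∀ n : ℕ, ∀ z, (σ ^ n) z = (g : ZMod p) ^ n * z := by
    intro n
    induction n with
    | zero => simp
    | succ n ih =>
      intro z
      rw [pow_succ', Equiv.Perm.mul_apply, ih]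
      show (g : ZMod p) * _ = _
      rw [pow_succ']; ring
  obtain ⟨hsupp, hcyc⟩ : σ.support = Finset.univ.erase 0 ∧ σ.IsCycle := by
    have hg1 : (g : ZMod p) ≠ 1 := by
      intro hg1
      have hall : ∀ a : (ZMod p)ˣ, a = 1 := fun a => by
        obtain ⟨n, hn⟩ := hg a
        simp only at hn
        rw [← hn, show g = 1 from Units.ext hg1, one_pow]
      have hc : Fintype.card (ZMod p)ˣ ≤ 1 := Fintype.card_le_one_iff.2 fun a b => by rw [hall a, hall b]
      rw [ZMod.card_units] at hc
      obtain ⟨q, hq⟩ := hodd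
      have := hp.two_le
      omega
    refine ⟨?_, 1, ?_, fun z hz => ?_⟩
    · ext z
      rw [Equiv.Perm.mem_support, Finset.mem_erase]
      simp only [Finset.mem_univ, and_true]
      show (g : ZMod p) * z ≠ z ↔ z ≠ 0
      refine not_congr ⟨fun hz => ?_, fun hz => by rw [hz, mul_zero]⟩
      by_contra hz0
      exact hg1 (mul_right_cancel₀ hz0 (hz.trans (one_mul z).symm))
    · show (g : ZMod p) * 1 ≠ 1
      rwa [mul_one]
    · have hz0 : z ≠ 0 := fun h0 => hz (by rw [h0]; exact mul_zero _)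
      obtain ⟨n, hn⟩ := hg (Units.mk0 z hz0)
      refine ⟨(n : ℤ), ?_⟩
      rw [zpow_natCast, hσ, mul_one, ← Units.val_pow_eq_pow_val]
      simp only at hn
      rw [hn, Units.val_mk0]
  have hsig : Equiv.Perm.sign σ = -1 := by
    rw [hcyc.sign, hsupp, Finset.card_erase_of_mem (Finset.mem_univ 0), Finset.card_univ, ZMod.card]
    obtain ⟨q, hq⟩ := hodd
    rw [show p - 1 = 2 * q by omega, pow_mul]
    simp
  obtain ⟨n, hn⟩ := hg r
  simp only at hn
  have hr : (Units.mulLeft r : Equiv.Perm (ZMod p)) = σ ^ n := by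
    refine Equiv.ext fun z => ?_
    rw [hσ]
    show (r : ZMod p) * z = _
    rw [← hn, Units.val_pow_eq_pow_val]
  rw [hr, map_pow, hsig] at h
  have heven : Even n := by
    rcases Nat.even_or_odd n with he | ho
    · exact he
    · rw [ho.neg_one_pow] at h
      exact absurd h (by decide)
  obtain ⟨q, hq⟩ := heven
  obtain ⟨s, hs⟩ := hodd
  rw [← hn, Units.val_pow_eq_pow_val, ← pow_mul, hq,
    show (q + q) * ((p - 1) / 2) = (p - 1) * q by
      rw [show (p - 1) / 2 = s by omega, show p - 1 = 2 * s by omega]; ring,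
    pow_mul, ZMod.pow_card_sub_one_eq_one g.ne_zero, one_pow]

/-- The coordinates make `x` affine. -/
theorem Data.affine {P : Sylow p G} {E : Subgroup G} (S : Data G P E) (i : ZMod p) :
    S.coord.symm ((S.x : Equiv.Perm α) (S.coord i)) =
      S.coord.symm ((S.x : Equiv.Perm α) (S.coord 0)) + (S.m : ZMod p) * i := by
  set τ : Equiv.Perm (ZMod p) :=
    S.coord.trans (((S.x : G) : Equiv.Perm α).trans S.coord.symm) with hτ
  have hu : ∀ (n : ℕ) (i : ZMod p),
      ((S.u ^ n : G) : Equiv.Perm α) (S.coord i) = S.coord (i + n) := by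
    intro n
    induction n with
    | zero => simp
    | succ n ih =>
      intro i
      rw [pow_succ']
      show (S.u : Equiv.Perm α) (((S.u ^ n : G) : Equiv.Perm α) (S.coord i)) = _
      rw [ih, S.u_apply]
      congr 1
      push_cast
      ring
  have hstep : ∀ i : ZMod p, τ (i + 1) = τ i + (S.m : ZMod p) := by
    intro i
    have h1 : S.x * S.u = S.u ^ S.m * S.x := mul_inv_eq_iff_eq_mul.1 S.conj_eq
    have h2 : ((S.x * S.u : G) : Equiv.Perm α) (S.coord i) =
        ((S.u ^ S.m * S.x : G) : Equiv.Perm α) (S.coord i) := by rw [h1]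
    have h3 : (S.x : Equiv.Perm α) ((S.u : Equiv.Perm α) (S.coord i)) =
        ((S.u ^ S.m : G) : Equiv.Perm α) ((S.x : Equiv.Perm α) (S.coord i)) := h2
    rw [S.u_apply, ← S.coord.apply_symm_apply ((S.x : Equiv.Perm α) (S.coord i)), hu] at h3
    show S.coord.symm ((S.x : Equiv.Perm α) (S.coord (i + 1))) = _
    rw [h3, S.coord.symm_apply_apply]
    rfl
  have haff : ∀ i : ZMod p, τ i = τ 0 + (S.m : ZMod p) * i := by
    intro i
    rw [← ZMod.natCast_zmod_val i]
    induction i.val with
    | zero => simp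
    | succ n ih => push_cast; rw [hstep, ih]; ring
  exact haff i

/-- `e` divides `(p - 1) / 2`. -/
theorem Data.dvd_half {P : Sylow p G} {E : Subgroup G} (S : Data G P E) (hp2 : p ≠ 2)
    (hperf : commutator G = ⊤) : orderOf S.x ∣ (p - 1) / 2 := by
  classical
  rw [← S.orderOf_m]
  refine orderOf_dvd_of_pow_eq_one ?_
  refine pow_half_eq_one_of_sign hp2 (Units.mk0 _ S.m_ne_zero) ?_
  by_cases hm : (S.m : ZMod p) = 1
  · have : (Units.mulLeft (Units.mk0 (S.m : ZMod p) S.m_ne_zero) : Equiv.Perm (ZMod p)) = 1 :=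
      Equiv.ext fun z => by show (S.m : ZMod p) * z = z; rw [hm, one_mul]
    rw [this, map_one]
  set τ : Equiv.Perm (ZMod p) :=
    S.coord.trans (((S.x : G) : Equiv.Perm α).trans S.coord.symm) with hτ
  have haff : ∀ i : ZMod p, τ i = τ 0 + (S.m : ZMod p) * i := S.affine
  set j0 : ZMod p := τ 0 / (1 - (S.m : ZMod p)) with hj0
  have hne : (1 : ZMod p) - (S.m : ZMod p) ≠ 0 := sub_ne_zero.2 (Ne.symm hm)
  have hconj : (Equiv.addLeft j0).symm.permCongr τ =
      Units.mulLeft (Units.mk0 (S.m : ZMod p) S.m_ne_zero) := by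
    refine Equiv.ext fun z => ?_
    simp only [Equiv.permCongr_apply, Equiv.symm_symm, Equiv.coe_addLeft]
    rw [Equiv.symm_apply_eq, haff]
    show _ = j0 + (S.m : ZMod p) * z
    rw [hj0]
    field_simp
    ring
  rw [← hconj, Equiv.Perm.sign_permCongr]
  have : τ = S.coord.symm.permCongr ((S.x : G) : Equiv.Perm α) := by
    refine Equiv.ext fun z => ?_
    simp [hτ]
  rw [this, Equiv.Perm.sign_permCongr, sign_eq_one hperf]

end CfsgLib.PrimeDegreeTI
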