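import Cfsg.Agent.SmallDegreeP.Lattice
import Cfsg.Agent.TILattice.Basic
import Cfsg.Agent.PrimeDegreeTI.Modules
import Cfsg.Agent.PrimeDegreeTI.Exceptional

/-!
# A faithful module of dimension at most `(p - 1) / 2` in characteristic `p`
-/

set_option autoImplicit false
set_option linter.style.haveILetI false
set_option linter.unusedSectionVars false

namespace CfsgLib.PrimeDegreeTI

open MulAction CfsgLib.SmallDegreeP

section Generic

variable {k : Type*} [Field k] {G : Type*} [Group G] {V : Type*} [AddCommGroup V] [Module k V]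

/-- A representation on an invariant subspace. -/
noncomputable def subRep (ρ : Representation k G V) (W : Submodule k V)
    (hW : ∀ g, ∀ v ∈ W, ρ g v ∈ W) : Representation k G W where
  toFun g := (ρ g).restrict (hW g)
  map_one' := LinearMap.ext fun w => Subtype.ext (by simp)
  map_mul' a b := LinearMap.ext fun w => Subtype.ext (by simp)

theorem subRep_apply (ρ : Representation k G V) (W : Submodule k V)
    (hW : ∀ g, ∀ v ∈ W, ρ g v ∈ W) (g : G) (w : W) : (subRep ρ W hW g w : V) = ρ g w := rfl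

/-- A representation on the quotient by an invariant subspace. -/
noncomputable def quotRep (ρ : Representation k G V) (W : Submodule k V)
    (hW : ∀ g, ∀ v ∈ W, ρ g v ∈ W) : Representation k G (V ⧸ W) where
  toFun g := W.mapQ W (ρ g) (hW g)
  map_one' := Submodule.linearMap_qext _ (LinearMap.ext fun w => by simp)
  map_mul' a b := Submodule.linearMap_qext _ (LinearMap.ext fun w => by simp)

theorem quotRep_mk (ρ : Representation k G V) (W : Submodule k V)
    (hW : ∀ g, ∀ v ∈ W, ρ g v ∈ W) (g : G) (v : V) :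
    quotRep ρ W hW g (Submodule.Quotient.mk v) = Submodule.Quotient.mk (ρ g v) := rfl

variable [IsSimpleGroup G] (H : Subgroup G) [Fintype H] (hH : (Fintype.card H : k) ≠ 0)

include hH in
/-- Without a fixed vector of a subgroup a representation of a simple group is faithful. -/
theorem injective_of_sum_eq_zero [Nontrivial V] (ρ : Representation k G V)
    (h : ∑ a : H, ρ (a : G) = 0) : Function.Injective ρ := by
  rw [← MonoidHom.ker_eq_bot_iff]
  refine (MonoidHom.normal_ker ρ).eq_bot_or_eq_top.resolve_right fun htop => ?_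
  obtain ⟨v, hv⟩ := exists_ne (0 : V)
  have h1 : ∀ a : G, ρ a = 1 := fun a =>
    MonoidHom.mem_ker.1 (htop ▸ Subgroup.mem_top a)
  have h2 := LinearMap.congr_fun h v
  simp only [h1, Finset.sum_const, Finset.card_univ, LinearMap.smul_apply, Module.End.one_apply,
    LinearMap.zero_apply, ← Nat.cast_smul_eq_nsmul k] at h2
  exact hv ((smul_eq_zero.1 h2).resolve_left hH)

theorem sum_subRep (ρ : Representation k G V) (h : ∑ a : H, ρ (a : G) = 0) (W : Submodule k V)
    (hW : ∀ g, ∀ v ∈ W, ρ g v ∈ W) : ∑ a : H, subRep ρ W hW (a : G) = 0 := by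
  refine LinearMap.ext fun w => Subtype.ext ?_
  rw [LinearMap.sum_apply, AddSubmonoidClass.coe_finsetSum, LinearMap.zero_apply, ZeroMemClass.coe_zero]
  simp only [subRep_apply]
  rw [← LinearMap.sum_apply, h, LinearMap.zero_apply]

theorem sum_quotRep (ρ : Representation k G V) (h : ∑ a : H, ρ (a : G) = 0) (W : Submodule k V)
    (hW : ∀ g, ∀ v ∈ W, ρ g v ∈ W) : ∑ a : H, quotRep ρ W hW (a : G) = 0 := by
  refine Submodule.linearMap_qext _ (LinearMap.ext fun v => ?_)
  rw [LinearMap.comp_apply, LinearMap.sum_apply, LinearMap.comp_apply, LinearMap.zero_apply]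
  simp only [Submodule.mkQ_apply, quotRep_mk]
  have h1 := congrArg W.mkQ (LinearMap.congr_fun h v)
  simpa [map_sum, LinearMap.sum_apply] using h1

end Generic

/-- The conclusion of the reduction: a faithful module of dimension at most `(p - 1) / 2`. -/
def HasSmallRep (p : ℕ) (G : Type*) [Group G] : Prop :=
  ∃ (k : Type) (_ : Field k) (_ : CharP k p) (d : ℕ) (τ : G →* Matrix (Fin d) (Fin d) k),
    Function.Injective τ ∧ 2 * d + 1 ≤ p

theorem hasSmallRep_of_rep {p : ℕ} {G : Type*} [Group G] {k : Type} [Field k] [CharP k p]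
    {V : Type*} [AddCommGroup V] [Module k V] [FiniteDimensional k V] (ρ : Representation k G V)
    (hρ : Function.Injective ρ) (hd : 2 * Module.finrank k V + 1 ≤ p) : HasSmallRep p G :=
  ⟨k, inferInstance, inferInstance, Module.finrank k V,
    (LinearMap.toMatrixAlgEquiv (Module.finBasis k V)).toMonoidHom.comp ρ,
    (LinearMap.toMatrixAlgEquiv (Module.finBasis k V)).injective.comp hρ, hd⟩

section Dichotomy

universe v

variable {p : ℕ} [Fact p.Prime] {G : Type*} [Group G] [Finite G] [IsSimpleGroup G] (D : Frame p G)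
  {k : Type} [Field k] [CharP k p]

/-- A module of dimension `(p + 1) / 2` is simple or gives a small module. -/
theorem small_or_piece (H : Subgroup G) [Fintype H] (hH : (Fintype.card H : k) ≠ 0)
    {V : Type*} [AddCommGroup V] [Module k V] [FiniteDimensional k V] (ρ : Representation k G V)
    (hsum : ∑ a : H, ρ (a : G) = 0) {ζ : k} (hζ : IsPrimitiveRoot ζ D.e)
    (hdet : ∀ g, LinearMap.det (ρ g) = 1) (hdim : 2 * Module.finrank k V = p + 1) :
    HasSmallRep p G ∨ ∃ l : k, l ^ 2 = 1 ∧ l ^ D.e = 1 ∧ ∀ j, ¬ D.e ∣ j →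
      LinearMap.trace k V (ρ (D.x ^ j)) = l ^ j := by
  by_cases hirr : ∀ W : Submodule k V, (∀ g, ∀ v ∈ W, ρ g v ∈ W) → W = ⊥ ∨ W = ⊤
  · exact Or.inr (D.piece ρ hirr hζ hdet hdim)
  push Not at hirr
  obtain ⟨W, hW, hWb, hWt⟩ := hirr
  have hlt := Submodule.finrank_lt hWt
  haveI : Nontrivial W := Submodule.nontrivial_iff_ne_bot.2 hWb
  exact Or.inl (hasSmallRep_of_rep (subRep ρ W hW)
    (injective_of_sum_eq_zero H hH _ (sum_subRep H ρ hsum W hW)) (by omega))

/-- The main dichotomy in characteristic `p`. -/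
theorem hasSmallRep_of_traces (H : Subgroup G) [Fintype H] (hH : (Fintype.card H : k) ≠ 0)
    {V : Type v} [AddCommGroup V] [Module k V] [FiniteDimensional k V] (ρ : Representation k G V)
    (hsum : ∑ a : H, ρ (a : G) = 0) (hdim : Module.finrank k V = p + 1) {ζ : k} {r : ℕ}
    (hζ : IsPrimitiveRoot ζ D.e) (hζr : ζ ^ r ≠ ζ)
    (hdet : ∀ (W : Type v) [AddCommGroup W] [Module k W] (σ : Representation k G W) (g : G),
      LinearMap.det (σ g) = 1)
    (htr : ∀ j, ¬ D.e ∣ j → LinearMap.trace k V (ρ (D.x ^ j)) = ζ ^ j + (ζ ^ r) ^ j)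
    (hform : ζ ^ (r + 1) = 1 → ∃ β : V →ₗ[k] V →ₗ[k] k, β ≠ 0 ∧
      ∀ g v w, β (ρ g v) (ρ g w) = β v w) :
    HasSmallRep p G := by
  classical
  have h7 := D.seven_le
  have h3 := D.three_le
  have he0 := D.e_ne_zero (k := k)
  have hodd : Odd p := (Fact.out : p.Prime).odd_of_ne_two (by omega)
  have hzr : (ζ ^ r) ^ D.e = 1 := by rw [← pow_mul, mul_comm, pow_mul, hζ.pow_eq_one, one_pow]
  have hsq : ζ ^ 2 ≠ 1 := hζ.pow_ne_one_of_pos_of_lt two_ne_zero (by omega)
  have hj : ∀ j, j < D.e → ¬ D.e ∣ j ∨ j = 0 := fun j hj => by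
    rcases Nat.eq_zero_or_pos j with h | h
    · exact Or.inr h
    · exact Or.inl fun hd => by have := Nat.le_of_dvd h hd; omega
  by_cases hirr : ∀ W : Submodule k V, (∀ g, ∀ v ∈ W, ρ g v ∈ W) → W = ⊥ ∨ W = ⊤
  · exfalso
    obtain ⟨b, y, w, l, ν, hb1, hb2, hwu, hw, hl, hν, hlν, htr'⟩ :=
      D.exists_chain_line ρ hirr hζ (hdet V ρ) hdim
    have hpair := eq_or_eq_of_power_sums he0 (by omega) hζ.pow_eq_one hzr hζr hl hν fun j hje => by
      rcases hj j hje with h | rfl
      · exact (htr' j h).symm.trans (htr j h)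
      · simp
    have hr1 : ζ ^ (r + 1) = 1 := by
      rcases hpair with ⟨h1, h2⟩ | ⟨h1, h2⟩
      · rw [pow_succ, ← h2, ← h1, mul_comm, hlν]
      · rw [pow_succ, ← h2, ← h1, hlν]
    obtain ⟨β, hβ0, hβ⟩ := hform hr1
    have hnd : ∀ v, (∀ z, β v z = 0) → v = 0 := by
      intro v hv
      rcases hirr (LinearMap.ker β) (fun g z hz => LinearMap.mem_ker.2 (LinearMap.ext fun q => by
        have hq : q = ρ g (ρ g⁻¹ q) := by
          rw [← Module.End.mul_apply, ← map_mul, mul_inv_cancel, map_one, Module.End.one_apply]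
        rw [hq, hβ, LinearMap.mem_ker.1 hz, LinearMap.zero_apply, LinearMap.zero_apply])) with h | h
      · exact (Submodule.eq_bot_iff _).1 h v (LinearMap.mem_ker.2 (LinearMap.ext hv))
      · exact absurd (LinearMap.ker_eq_top.1 h) hβ0
    have hν2 := D.sq_eq_one_of_form ρ b y w ν hb1 hb2 hwu hw β hβ hnd
    have hinv : (ζ ^ r) * ζ = 1 := by rw [← pow_succ, hr1]
    rcases hpair with ⟨-, h2⟩ | ⟨h2, -⟩
    · rw [h2] at hν2
      apply hsq
      calc ζ ^ 2 = ((ζ ^ r) * ζ) ^ 2 := by rw [mul_pow, hν2, one_mul]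
        _ = 1 := by rw [hinv, one_pow]
    · exact hsq (h2 ▸ hν2)
  push Not at hirr
  obtain ⟨W, hW, hWb, hWt⟩ := hirr
  haveI : Nontrivial W := Submodule.nontrivial_iff_ne_bot.2 hWb
  haveI : Nontrivial (V ⧸ W) := Submodule.Quotient.nontrivial_iff.2 hWt
  have hadd := W.finrank_quotient_add_finrank
  have hs1 := sum_subRep H ρ hsum W hW
  have hs2 := sum_quotRep H ρ hsum W hW
  by_cases hd1 : 2 * Module.finrank k W + 1 ≤ p
  · exact hasSmallRep_of_rep _ (injective_of_sum_eq_zero H hH _ hs1) hd1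
  by_cases hd2 : 2 * Module.finrank k (V ⧸ W) + 1 ≤ p
  · exact hasSmallRep_of_rep _ (injective_of_sum_eq_zero H hH _ hs2) hd2
  obtain ⟨q, hq⟩ := hodd
  rcases small_or_piece D H hH (subRep ρ W hW) hs1 hζ (hdet W _) (by omega) with h | ⟨l1, ha, ha', ht1⟩
  · exact h
  have hdetQ : ∀ g, LinearMap.det (quotRep ρ W hW g) = 1 := hdet (V ⧸ W) _
  rcases small_or_piece D H hH (quotRep ρ W hW) hs2 hζ hdetQ (by omega) with h | ⟨l2, hb, hb', ht2⟩
  · exact h
  exfalso
  have hpair := eq_or_eq_of_power_sums he0 (by omega) hζ.pow_eq_one hzr hζr ha' hb' fun j hje => by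
    rcases hj j hje with h | rfl
    · rw [← htr j h, trace_eq_trace_add_trace W (ρ (D.x ^ j)) (hW _), ← ht1 j h, ← ht2 j h]
      rfl
    · simp
  rcases hpair with ⟨h1, -⟩ | ⟨h1, -⟩
  · exact hsq (h1 ▸ ha)
  · exact hsq (h1 ▸ hb)

end Dichotomy

variable {α : Type*} [Fintype α] [DecidableEq α] {p : ℕ} [Fact p.Prime]
  {G : Subgroup (Equiv.Perm α)}

/-- The frame of the data. -/
noncomputable def Data.frame {P : Sylow p G} {E : Subgroup G} (S : Data G P E) (hp2 : p ≠ 2)
    (hperf : commutator G = ⊤) (h3 : 3 ≤ orderOf S.x)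
    (hPE : (P : Subgroup G) ⊔ E = Subgroup.normalizer ((P : Subgroup G) : Set G)) : Frame p G where
  u := S.u
  x := S.x
  e := orderOf S.x
  m := S.m
  orderOf_u := S.orderOf_u
  orderOf_x := rfl
  three_le := h3
  dvd_half := S.dvd_half hp2 hperf
  conj_eq := S.conj_eq
  orderOf_m := S.orderOf_m
  semiregular := S.semiregular hPE

/-- A faithful small module exists. -/
theorem hasSmallRep (hα : Fintype.card α = p) [IsPretransitive G α] {P : Sylow p G} {E : Subgroup G}
    (S : Data G P E) (hp2 : p ≠ 2) (hperf : commutator G = ⊤) [IsSimpleGroup G]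
    (hPE : (P : Subgroup G) ⊔ E = Subgroup.normalizer ((P : Subgroup G) : Set G))
    (huniq : ∃! χ : Cfsg.IrrCharacter G, Cfsg.charDegree (χ : G → ℂ) = p)
    (h3 : 3 ≤ orderOf S.x)
    (hNE : Nat.card (Subgroup.normalizer (E : Set G)) = 2 * Nat.card E)
    (hTI : ∀ g : G, g ∉ Subgroup.normalizer (E : Set G) →
      E ⊓ E.map (MulAut.conj g).toMonoidHom = ⊥)
    {t : G} (ht : t ∈ Subgroup.normalizer (E : Set G)) (htx : t * S.x * t⁻¹ ≠ S.x) :
    HasSmallRep p G := by
  classical
  haveI := Fintype.ofFinite G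
  have hp : p.Prime := Fact.out
  obtain ⟨R, ζ, r, hζ, hζr, htr, -, hsum, hreal⟩ :=
    exists_exceptional hα S hp2 hperf huniq h3 hNE hTI ht htx
  set e := orderOf S.x with he
  let D := S.frame hp2 hperf h3 hPE
  obtain ⟨B, hB⟩ := TILattice.exists_valuationSubring_p p
  obtain ⟨Q, Q', σ, hQQ', -, hσ⟩ := exists_integral B R
  let k := IsLocalRing.ResidueField B
  haveI : CharP k p := by
    refine (CharP.charP_iff_prime_eq_zero hp).2 ?_
    rw [← map_natCast (IsLocalRing.residue B), IsLocalRing.residue_eq_zero_iff]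
    exact hB
  have hζB : ζ ∈ B := by
    rcases B.mem_or_inv_mem ζ with h | h
    · exact h
    · have hpow : ζ⁻¹ ^ (e - 1) = ζ := by
        rw [inv_pow]
        refine inv_eq_of_mul_eq_one_left ?_
        rw [← pow_succ', Nat.sub_add_cancel (by omega), hζ.pow_eq_one]
      rw [← hpow]
      exact pow_mem h _
  set ζB : B := ⟨ζ, hζB⟩ with hζBdef
  set z : k := IsLocalRing.residue B ζB with hz
  have he0 : (e : k) ≠ 0 := D.e_ne_zero (k := k)
  have hzp : IsPrimitiveRoot z e := by
    refine IsPrimitiveRoot.mk_of_lt z (by omega) ?_ fun l hl0 hle h => he0 ?_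
    · rw [hz, ← map_pow, show ζB ^ e = 1 from Subtype.ext (by simpa using hζ.pow_eq_one), map_one]
    · have h1 : ∑ i ∈ Finset.range e, (ζB ^ l) ^ i = 0 := by
        refine Subtype.ext ?_
        push_cast
        refine (mul_eq_zero.1 ?_).resolve_right
          (sub_ne_zero.2 (hζ.pow_ne_one_of_pos_of_lt hl0.ne' hle))
        rw [geom_sum_mul, ← pow_mul, mul_comm, pow_mul, hζ.pow_eq_one, one_pow, sub_self]
      have h2 := congrArg (IsLocalRing.residue B) h1
      simp only [map_sum, map_pow, ← hz, h, one_pow, Finset.sum_const, Finset.card_range,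
        nsmul_eq_mul, mul_one, map_zero] at h2
      exact h2
  have hincl : ∀ A : Matrix (Fin (p + 1)) (Fin (p + 1)) B,
      ((A.trace : B) : ℂ) = (inclMat B A).trace := fun A => by
    simp [Matrix.trace, inclMat]
  have htrσ : ∀ g, ((σ g).trace : ℂ) = (R g).trace := fun g => by
    rw [hincl, hσ, Matrix.trace_mul_comm, ← mul_assoc, hQQ', one_mul]
  let τ : G →* Matrix (Fin (p + 1)) (Fin (p + 1)) k := (redMat B).toMonoidHom.comp σ
  let ρ : Representation k G (Fin (p + 1) → k) :=
    (Matrix.toLinAlgEquiv' : _ ≃ₐ[k] _).toMonoidHom.comp τ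
  have hdim : Module.finrank k (Fin (p + 1) → k) = p + 1 := Module.finrank_fin_fun k
  haveI : Nonempty α := Fintype.card_pos_iff.1 (hα ▸ hp.pos)
  set H := stabilizer G (Classical.arbitrary α) with hH
  haveI := Fintype.ofFinite H
  have hcard : (Fintype.card H : k) ≠ 0 := fun h => by
    rw [CharP.cast_eq_zero_iff k p, ← Nat.card_eq_fintype_card] at h
    apply not_sq_dvd (G := G) hα
    rw [sq, ← Subgroup.index_mul_card H, hH, index_stabilizer_of_transitive,
      Nat.card_eq_fintype_card (α := α), hα]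
    exact Nat.mul_dvd_mul_left p h
  have hσsum : ∑ a : H, σ (a : G) = 0 := inclMat_injective B (by
    rw [map_sum, map_zero]
    simp only [hσ]
    rw [← Finset.sum_mul, ← Finset.mul_sum, hsum, mul_zero, zero_mul])
  have hρsum : ∑ a : H, ρ (a : G) = 0 := by
    show ∑ a : H, Matrix.toLinAlgEquiv' (redMat B (σ (a : G))) = 0
    rw [← map_sum, ← map_sum, hσsum, map_zero, map_zero]
  refine hasSmallRep_of_traces D H hcard ρ hρsum hdim (ζ := z) (r := r) hzp ?_
    (fun W _ _ σ' g => det_eq_one hperf σ' g) ?_ ?_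
  · intro h
    refine hζr ?_
    have h1 : z ^ (r + (e - 1)) = 1 := by
      rw [pow_add, h, ← pow_succ', Nat.sub_add_cancel (by omega), hzp.pow_eq_one]
    have h2 : ζ ^ (r + (e - 1)) = 1 := (hζ.pow_eq_one_iff_dvd _).2 ((hzp.pow_eq_one_iff_dvd _).1 h1)
    calc ζ ^ r = ζ ^ (r + (e - 1)) * ζ := by
          rw [← pow_succ, add_assoc, Nat.sub_add_cancel (by omega), pow_add, hζ.pow_eq_one, mul_one]
      _ = ζ := by rw [h2, one_mul]
  · intro j hj
    have h1 : (σ (S.x ^ j)).trace = ζB ^ j + (ζB ^ r) ^ j := Subtype.ext (by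
      rw [htrσ, htr j hj]
      push_cast
      rfl)
    show LinearMap.trace k _ (Matrix.toLinAlgEquiv' (redMat B (σ (S.x ^ j)))) = _
    rw [show LinearMap.trace k _ (Matrix.toLinAlgEquiv' (redMat B (σ (S.x ^ j)))) =
      (redMat B (σ (S.x ^ j))).trace from Matrix.trace_toLin'_eq _]
    have h2 : (redMat B (σ (S.x ^ j))).trace = IsLocalRing.residue B (σ (S.x ^ j)).trace := by
      simp [Matrix.trace, redMat]
    rw [h2, h1, map_add, map_pow, map_pow, map_pow]
  · intro hr1
    have hζ1 : ζ ^ (r + 1) = 1 := (hζ.pow_eq_one_iff_dvd _).2 ((hzp.pow_eq_one_iff_dvd _).1 hr1)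
    set R' : G →* Matrix (Fin (p + 1)) (Fin (p + 1)) ℂ := (inclMat B).toMonoidHom.comp σ with hR'
    have htrR : ∀ g, (R' g).trace = (R g).trace := fun g => (hincl (σ g)).symm.trans (htrσ g)
    obtain ⟨a, b, hA⟩ : ∃ a b : Fin (p + 1),
        ∑ g : G, (R' g).transpose * Matrix.single a b (1 : ℂ) * R' g ≠ 0 := by
      by_contra h
      push Not at h
      have h0 : ∑ g : G, (R' g).trace * (R' g).trace = 0 := by
        simp only [Matrix.trace, Matrix.diag_apply, Finset.sum_mul, Finset.mul_sum]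
        rw [Finset.sum_comm]
        refine Finset.sum_eq_zero fun a _ => ?_
        rw [Finset.sum_comm]
        refine Finset.sum_eq_zero fun b _ => ?_
        have h1 := congrFun (congrFun (h a b) a) b
        rw [Matrix.sum_apply, Matrix.zero_apply] at h1
        rw [← h1]
        refine Finset.sum_congr rfl fun g _ => ?_
        simp [Matrix.mul_apply, Matrix.single_apply, Matrix.transpose_apply, Finset.sum_ite_eq,
          ite_and, mul_comm]
      simp only [htrR] at h0
      rw [hreal hζ1] at h0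
      exact Nat.card_pos.ne' (Nat.cast_eq_zero.1 h0)
    set A := ∑ g : G, (R' g).transpose * Matrix.single a b (1 : ℂ) * R' g with hAdef
    have hAinv : ∀ h, (R' h).transpose * A * R' h = A := by
      intro h
      rw [hAdef, Finset.mul_sum, Finset.sum_mul]
      refine Fintype.sum_equiv (Equiv.mulRight h) _ _ fun g => ?_
      rw [Equiv.coe_mulRight, map_mul, Matrix.transpose_mul]
      simp only [Matrix.mul_assoc]
    obtain ⟨c, Y, -, hY, hY0⟩ := exists_scale B hA
    have hYinv : ∀ h, (σ h).transpose * Y * σ h = Y := fun h => inclMat_injective B (by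
      rw [map_mul, map_mul, show inclMat B (σ h).transpose = (R' h).transpose from
        Matrix.transpose_map, hY, Matrix.mul_smul, Matrix.smul_mul]
      exact congrArg (c • ·) (hAinv h))
    refine ⟨Matrix.toLinearMap₂' k (redMat B Y), fun h => hY0 ?_, fun g v w => ?_⟩
    · exact (Matrix.toLinearMap₂' k).injective (h.trans (map_zero _).symm)
    · show Matrix.toLinearMap₂' k (redMat B Y) (Matrix.toLinAlgEquiv' (redMat B (σ g)) v)
        (Matrix.toLinAlgEquiv' (redMat B (σ g)) w) = _
      rw [Matrix.toLinAlgEquiv'_apply, Matrix.toLinAlgEquiv'_apply, Matrix.toLinearMap₂'_apply',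
        Matrix.toLinearMap₂'_apply']
      have hred : (redMat B (σ g)).transpose * redMat B Y * redMat B (σ g) = redMat B Y := by
        conv_rhs => rw [← hYinv g, map_mul, map_mul]
        rfl
      conv_rhs => rw [← hred]
      rw [← Matrix.mulVec_mulVec, ← Matrix.mulVec_mulVec, Matrix.dotProduct_mulVec v,
        Matrix.vecMul_transpose]

end CfsgLib.PrimeDegreeTI
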