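import Cfsg.Agent.SmallModP.Recognition
import Cfsg.Agent.PrimeDegreeTI.Reduce

/-!
# A faithful small module gives `PSL(2, p)`
-/

set_option autoImplicit false
set_option linter.style.haveILetI false
set_option linter.unusedSectionVars false

namespace CfsgLib.PrimeDegreeTI

open CfsgLib.SmallModP CfsgLib.DicksonPSL2
open scoped MatrixGroups

variable {p : ℕ} [Fact p.Prime]

/-- A small faithful module descends to a finite field. -/
theorem exists_finite_field {G : Type*} [Group G] [Finite G]
    (hopr : ∀ H : Subgroup G, H.Normal → IsPGroup p H → H = ⊥) (h : HasSmallRep p G) :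
    ∃ (F : Type) (_ : Field F) (_ : Fintype F) (_ : CharP F p) (d : ℕ)
      (ρ : G →* Module.End F (Fin d → F)), Function.Injective ρ ∧ 2 * d + 1 ≤ p := by
  classical
  haveI := Fintype.ofFinite G
  obtain ⟨k, ik, ikp, N, σ₁, hσ₁, hN⟩ := h
  letI : Algebra (ZMod p) k := ZMod.algebra k p
  let S := Algebra.adjoin (ZMod p) (Set.range fun x : G × Fin N × Fin N => σ₁ x.1 x.2.1 x.2.2)
  have hmem : ∀ g i j, σ₁ g i j ∈ S := fun g i j => Algebra.subset_adjoin ⟨(g, i, j), rfl⟩
  let τ : G →* Matrix (Fin N) (Fin N) S :=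
    { toFun := fun g => Matrix.of fun i j => ⟨σ₁ g i j, hmem g i j⟩
      map_one' := by
        ext i j
        show σ₁ 1 i j = ((1 : Matrix (Fin N) (Fin N) S) i j : k)
        rw [map_one]
        by_cases h : i = j <;> simp [Matrix.one_apply, h]
      map_mul' := fun a b => by
        ext i j
        show σ₁ (a * b) i j = _
        rw [map_mul, Matrix.mul_apply, Matrix.mul_apply]
        simp }
  have hτ : Function.Injective τ := fun a b h => hσ₁ (by
    ext i j
    exact congrArg Subtype.val (congrFun (congrFun h i) j))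
  haveI : Algebra.FiniteType (ZMod p) S :=
    (Subalgebra.fg_iff_finiteType S).1 ⟨(Finset.univ : Finset (G × Fin N × Fin N)).image
      fun x => σ₁ x.1 x.2.1 x.2.2, by simp [S]⟩
  obtain ⟨m, hm⟩ := Ideal.exists_maximal S
  letI : Field (S ⧸ m) := Ideal.Quotient.field m
  haveI : Algebra.FiniteType (ZMod p) (S ⧸ m) :=
    Algebra.FiniteType.of_surjective (Ideal.Quotient.mkₐ (ZMod p) m) Ideal.Quotient.mk_surjective
  haveI : Module.Finite (ZMod p) (S ⧸ m) := finite_of_finite_type_of_isJacobsonRing _ _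
  haveI : Finite (S ⧸ m) := Module.finite_of_finite (ZMod p)
  haveI : CharP (S ⧸ m) p :=
    charP_of_injective_algebraMap (algebraMap (ZMod p) (S ⧸ m)).injective p
  have hinj := map_injective (Ideal.Quotient.mk m) τ hτ hopr
  refine ⟨S ⧸ m, inferInstance, Fintype.ofFinite _, inferInstance, N,
    (Matrix.toLinAlgEquiv' : _ ≃ₐ[S ⧸ m] _).toMonoidHom.comp
      ((Ideal.Quotient.mk m).mapMatrix.toMonoidHom.comp τ), ?_, hN⟩
  exact (Matrix.toLinAlgEquiv'.injective).comp hinj

variable {α : Type*} [Fintype α] [DecidableEq α] {G : Subgroup (Equiv.Perm α)}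

/-- Recognition of `PSL(2, p)`. -/
theorem nonempty_psl_of_small (hα : Fintype.card α = p) [MulAction.IsPretransitive G α]
    [IsSimpleGroup G] (hp5 : 5 ≤ p) (P : Sylow p G) (hnn : ¬ (P : Subgroup G).Normal)
    (h : HasSmallRep p G) : Nonempty (G ≃* PSL(2, ZMod p)) := by
  classical
  have hp : p.Prime := Fact.out
  have hsq := not_sq_dvd (G := G) hα
  have htop : ∀ H : Subgroup G, IsPGroup p H → H = ⊤ → False := fun H hH he => by
    apply hnn
    have hle : (P : Subgroup G) ≤ H := he.symm ▸ le_top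
    rw [← P.3 hH hle, he]
    infer_instance
  have hopr : ∀ H : Subgroup G, H.Normal → IsPGroup p H → H = ⊥ := fun H hH hpH =>
    hH.eq_bot_or_eq_top.resolve_right (htop H hpH)
  have hnn' : ∀ H : Subgroup G, H.Normal → Nat.card H ≠ p := fun H hH hc => by
    have hpH : IsPGroup p H := IsPGroup.iff_card.2 ⟨1, by rw [hc, pow_one]⟩
    have := hopr H hH hpH
    rw [this, Subgroup.card_bot] at hc
    exact hp.ne_one hc.symm
  obtain ⟨u, hu⟩ := exists_prime_orderOf_dvd_card' p (dvd_card (G := G) hα)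
  obtain ⟨F, iF, iF', iFp, d, ρ, hρ, hd⟩ := exists_finite_field hopr h
  obtain ⟨hmain, -⟩ := main_induction hp5 hsq u hu (Module.finrank F (Fin d → F)) (Fin d → F) rfl
    (by rw [Module.finrank_fin_fun]; exact hd) ρ
  rcases hmain with hc | ⟨Ψ, hΨu, hY⟩
  · exact (false_of_conj_commute hsq hnn' hu fun g => hρ (by
      rw [map_mul, map_mul ρ u]; exact hc g)).elim
  have hΨ : Function.Injective Ψ := by
    rw [← MonoidHom.ker_eq_bot_iff]
    refine (MonoidHom.normal_ker Ψ).eq_bot_or_eq_top.resolve_right fun hk => hΨu ?_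
    exact MonoidHom.mem_ker.1 (hk ▸ Subgroup.mem_top u)
  let e₁ := MonoidHom.ofInjective hΨ
  rcases hY with ⟨⟨e⟩⟩ | ⟨⟨e⟩⟩
  · exact ⟨e₁.trans e⟩
  exfalso
  have hodd : Odd (Fintype.card (ZMod p)) := by rw [ZMod.card]; exact hp.odd_of_ne_two (by omega)
  haveI hLn := normal_range_toG (F := ZMod p) hodd
  have hidx := index_range_toG_odd (F := ZMod p) hodd
  set f := e₁.trans e
  set L := (toG (F := ZMod p)).range
  have hLi : (L.comap f.toMonoidHom).index = 2 := by
    rw [Subgroup.index_comap_of_surjective _ f.surjective, hidx]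
  haveI : (L.comap f.toMonoidHom).Normal := inferInstance
  rcases (inferInstance : (L.comap f.toMonoidHom).Normal).eq_bot_or_eq_top with hb | hb
  · rw [hb, Subgroup.index_bot] at hLi
    have h1 := dvd_card (G := G) hα
    rw [hLi] at h1
    have := Nat.le_of_dvd two_pos h1
    omega
  · rw [hb, Subgroup.index_top] at hLi
    omega

end CfsgLib.PrimeDegreeTI
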